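import Groth.Agent.Resolve.K377.BlowCodim2
import Groth.Agent.Resolve.K375.NagSch
import Groth.Agent.S0599
import Groth.Agent.S2654
import Groth.Agent.Ega4B.J2Ess

/-!
# Quasi-excellent schemes (every point has an affine neighbourhood with quasi-excellent sections)
-/

set_option autoImplicit false
universe u
open CategoryTheory CategoryTheory.Limits AlgebraicGeometry IsLocalRing TopologicalSpace

namespace K377.QESch

open Groth.Agent.Models.RMBlow Groth.Agent.Models.RMOpen K377.BlowCodim2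

/-- Every point has an affine open neighbourhood with quasi-excellent ring of sections. -/
def QE (X : Scheme.{u}) : Prop := ∀ x : X, ∃ U : X.affineOpens, x ∈ U.1 ∧ EGA4.IsQuasiExcellent Γ(X, U.1)

theorem isQuasiExcellent_of_finiteType (A : Type u) [CommRing A] (hA : EGA4.IsQuasiExcellent A) (B : Type u)
    [CommRing B] [Algebra A B] [Algebra.FiniteType A B] : EGA4.IsQuasiExcellent B := by
  obtain ⟨hN, hG, hJ⟩ := hA
  exact ⟨Algebra.FiniteType.isNoetherianRing A B, Groth.Agent.S0599.result A hG B,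
    Groth.Agent.Ega4B.J2Ess.isJ2_of_essFiniteType hJ B⟩

variable {X Y : Scheme.{u}}

theorem of_affineOpens (h : ∀ U : X.affineOpens, EGA4.IsQuasiExcellent Γ(X, U)) : QE X := by
  intro x
  obtain ⟨_, ⟨V, hV, rfl⟩, hyV, -⟩ :=
    X.isBasis_affineOpens.exists_subset_of_mem_open (Set.mem_univ x) isOpen_univ
  exact ⟨⟨V, hV⟩, hyV, h _⟩

theorem of_excellent (h : ∀ U : X.affineOpens, EGA4.IsExcellent Γ(X, U)) : QE X :=
  of_affineOpens fun U => ⟨(h U).1, (h U).2.2.1, (h U).2.2.2⟩

theorem of_locallyOfFiniteType (f : Y ⟶ X) [LocallyOfFiniteType f] (hX : QE X) : QE Y := by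
  intro y
  obtain ⟨V, hyV, hVq⟩ := hX (f y)
  obtain ⟨_, ⟨W, hW, rfl⟩, hyW, hWV⟩ :=
    Y.isBasis_affineOpens.exists_subset_of_mem_open (show y ∈ f ⁻¹ᵁ V.1 from hyV) (f ⁻¹ᵁ V.1).2
  refine ⟨⟨W, hW⟩, hyW, ?_⟩
  have h1 := f.finiteType_appLE V.2 hW hWV
  algebraize [(f.appLE V.1 W hWV).hom]
  exact isQuasiExcellent_of_finiteType Γ(X, V.1) hVq Γ(Y, W)

theorem isNag (h : QE X) : K375.NagSch.IsNag X := by
  refine K375.NagSch.isNag_of_cover fun x => ?_
  obtain ⟨U, hU, hq⟩ := h x
  exact ⟨U, hU, Groth.Agent.S2654.result _ hq⟩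

theorem isLocallyNoetherian (h : QE X) : IsLocallyNoetherian X := (isNag h).isLocallyNoetherian

/-- The regular locus of a quasi-excellent scheme is open. -/
theorem isOpen_regular (h : QE X) : IsOpen {x : X | IsRegularLocalRing (X.presheaf.stalk x)} := by
  rw [isOpen_iff_forall_mem_open]
  intro x hx
  obtain ⟨⟨U, hU'⟩, hxU, hq⟩ := h x
  have hU : IsAffineOpen U := hU'
  have ho := isOpen_reg_of_isJ2 hq.2.2 (𝟙 (Spec (CommRingCat.of Γ(X, U))))
  have hiff : ∀ q : Spec (CommRingCat.of Γ(X, U)), IsRegularLocalRing (X.presheaf.stalk (hU.fromSpec q)) ↔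
      IsRegularLocalRing ((Spec (CommRingCat.of Γ(X, U))).presheaf.stalk q) := fun q =>
    stalk_openImmersion_iff hU.fromSpec q
  refine ⟨hU.fromSpec '' {q | IsRegularLocalRing ((Spec (CommRingCat.of Γ(X, U))).presheaf.stalk q)}, ?_,
    hU.fromSpec.isOpenEmbedding.isOpenMap _ ho, ?_⟩
  · rintro _ ⟨q, hq, rfl⟩
    exact (hiff q).2 hq
  · have h2 : x ∈ Set.range hU.fromSpec := by
      rw [hU.range_fromSpec]
      exact hxU
    obtain ⟨q, rfl⟩ := h2
    exact ⟨q, (hiff q).1 hx, rfl⟩

/-- The normal local rings of dimension two of a quasi-excellent scheme are resolvable. -/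
theorem resolvable_stalk (h : QE X) (x : X)
    (hnor : IsDomain (X.presheaf.stalk x) ∧ IsIntegrallyClosed (X.presheaf.stalk x))
    (hdim : ringKrullDim (X.presheaf.stalk x) = 2) : Resolvable (X.presheaf.stalk x) := by
  obtain ⟨⟨U, hU'⟩, hxU, hq⟩ := h x
  have hU : IsAffineOpen U := hU'
  have hGU := hq.2.1
  have hN : IsNoetherianRing Γ(X, U) := hGU.1
  let alg1 : Algebra Γ(X, U) (X.presheaf.stalk x) := (X.presheaf.germ U x hxU).hom.toAlgebra
  have hloc : IsLocalization.AtPrime (X.presheaf.stalk x) (hU.primeIdealOf ⟨x, hxU⟩).asIdeal :=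
    hU.isLocalization_stalk ⟨x, hxU⟩
  let p := (hU.primeIdealOf ⟨x, hxU⟩).asIdeal
  let e : X.presheaf.stalk x ≃+* Localization.AtPrime p :=
    (IsLocalization.algEquiv p.primeCompl (X.presheaf.stalk x) (Localization.AtPrime p)).toRingEquiv
  have hNx : IsNoetherianRing (X.presheaf.stalk x) :=
    IsLocalization.isNoetherianRing p.primeCompl _ hN
  have h1 : IsDomain (Localization.AtPrime p) := by
    have := hnor.1
    exact MulEquiv.isDomain (X.presheaf.stalk x) e.symm.toMulEquiv
  have h2 : IsIntegrallyClosed (Localization.AtPrime p) := by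
    have := hnor.2
    have := hnor.1
    exact IsIntegrallyClosed.of_equiv e
  have h3 : ringKrullDim (Localization.AtPrime p) = 2 := by
    rw [← ringKrullDim_eq_of_ringEquiv e, hdim]
  exact K377.ResQE.resolvable_of_ringEquiv e (K377.ResQE.resolvable_of_isRegularHom _ h3 (hGU.2 p))

end K377.QESch
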