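import Groth.Agent.An.H526.T3Norm
import Groth.Agent.Ega3B.NormalBirational
import Groth.Agent.Ega2.H303.SubIso
import Groth.Agent.Dix.ContractSurf
import Groth.Agent.Models.RMOpen
import Groth.Agent.S0573
import Groth.Prelude.Def_EGA4Misc
import Groth.Agent.S2260
import Groth.Agent.S9829

/-!
# Normalization of reduced Noetherian separated Nagata schemes
-/

set_option autoImplicit false
universe u
open CategoryTheory CategoryTheory.Limits AlgebraicGeometry TopologicalSpace

namespace K377.NormSch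

/-- The generic points of the components are the points without proper generization. -/
theorem mem_genericPoints_iff {X : Scheme.{u}} (x : X) :
    x ∈ genericPoints X ↔ ∀ y : X, y ⤳ x → y = x := by
  constructor
  · intro hx y hy
    have h1 : IsIrreducible (closure {y} : Set X) := isIrreducible_singleton.closure
    have h2 : closure {x} ∈ irreducibleComponents X := hx
    have h3 : closure {x} ⊆ (closure {y} : Set X) := by
      rw [← specializes_iff_closure_subset]
      exact hy
    have h4 : (closure {y} : Set X) ⊆ closure {x} := h2.2 h1 h3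
    have h5 : x ⤳ y := by
      rw [specializes_iff_closure_subset]
      exact h4
    exact (hy.antisymm h5).eq
  · intro h
    have h2 : IsIrreducible (closure {x} : Set X) := isIrreducible_singleton.closure
    obtain ⟨W, hW, hxW⟩ := exists_mem_irreducibleComponents_subset_of_isIrreducible _ h2
    obtain ⟨ζ, hζ⟩ := QuasiSober.sober hW.1 (isClosed_of_mem_irreducibleComponents _ hW)
    have h3 : ζ ⤳ x := by
      rw [specializes_iff_mem_closure, hζ.def]
      exact hxW (subset_closure rfl)
    obtain rfl := h ζ h3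
    change closure {ζ} ∈ irreducibleComponents X
    rw [hζ.def]
    exact hW

/-- A dense open of a Noetherian scheme contains the generic points of the components. -/
theorem genericPoints_subset {X : Scheme.{u}} [IsNoetherian X] (U : X.Opens) (hU : Dense (U : Set X)) :
    genericPoints X ⊆ U := by
  intro x hx
  by_contra hxU
  have hfin : (genericPoints X).Finite := genericPoints.finite NoetherianSpace.finite_irreducibleComponents
  -- the union of the other components
  let Z : Set X := ⋃ y ∈ (genericPoints X \ {x} : Set X), closure {y}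
  have hZ : IsClosed Z := (hfin.subset Set.sdiff_subset).isClosed_biUnion fun y _ => isClosed_closure
  have hxZ : x ∉ Z := by
    intro h
    simp only [Z, Set.mem_iUnion] at h
    obtain ⟨y, ⟨hy1, hy2⟩, hy⟩ := h
    exact hy2 ((mem_genericPoints_iff x).1 hx y (specializes_iff_mem_closure.2 hy))
  obtain ⟨z, hzZ, hzU⟩ := hU.inter_open_nonempty Zᶜ hZ.isOpen_compl ⟨x, hxZ⟩
  -- `z` lies in some component
  obtain ⟨y, hy, hyz⟩ : ∃ y ∈ genericPoints X, y ⤳ z := by
    have h2 : IsIrreducible (closure {z} : Set X) := isIrreducible_singleton.closure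
    obtain ⟨W, hW, hxW⟩ := exists_mem_irreducibleComponents_subset_of_isIrreducible _ h2
    obtain ⟨ζ, hζ⟩ := QuasiSober.sober hW.1 (isClosed_of_mem_irreducibleComponents _ hW)
    refine ⟨ζ, ?_, ?_⟩
    · change closure {ζ} ∈ irreducibleComponents X
      rw [hζ.def]
      exact hW
    · rw [specializes_iff_mem_closure, hζ.def]
      exact hxW (subset_closure rfl)
  by_cases hyx : y = x
  · subst hyx
    exact hxU (hyz.mem_open U.2 hzU)
  · apply hzZ
    simp only [Z, Set.mem_iUnion]
    exact ⟨y, ⟨hy, hyx⟩, specializes_iff_mem_closure.1 hyz⟩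

/-- A morphism of Noetherian schemes which is an isomorphism over a dense open with dense preimage is
birational. -/
theorem isBirational {X' X : Scheme.{u}} [IsNoetherian X'] [IsNoetherian X] (f : X' ⟶ X) (U : X.Opens)
    (hU : Dense (U : Set X)) (hU' : Dense ((f ⁻¹ᵁ U : X'.Opens) : Set X')) [IsIso (f ∣_ U)] :
    RadPt.IsBirational f := by
  have h1 := genericPoints_subset U hU
  have h2 := genericPoints_subset _ hU'
  have key : ∀ a : (f ⁻¹ᵁ U : X'.Opens).toScheme, U.ι ((f ∣_ U) a) = f a.1 := by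
    intro a
    rw [← Scheme.Hom.comp_apply, morphismRestrict_ι, Scheme.Hom.comp_apply]
    rfl
  have hsur : ∀ y ∈ U, ∃ x ∈ f ⁻¹ᵁ U, f x = y := by
    intro y hy
    obtain ⟨x', hx'⟩ := (f ∣_ U).surjective ⟨y, hy⟩
    refine ⟨x'.1, x'.2, ?_⟩
    have h3 := congrArg U.ι hx'
    rw [key] at h3
    exact h3
  have hinj : ∀ x x' : X', f x ∈ U → f x = f x' → x = x' := by
    intro x x' hx hxx
    have hx' : f x' ∈ U := hxx ▸ hx
    let a : (f ⁻¹ᵁ U : X'.Opens).toScheme := ⟨x, hx⟩
    let a' : (f ⁻¹ᵁ U : X'.Opens).toScheme := ⟨x', hx'⟩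
    have h3 : (f ∣_ U) a = (f ∣_ U) a' := by
      apply U.ι.isOpenEmbedding.injective
      exact (key a).trans (hxx.trans (key a').symm)
    have h4 := (f ∣_ U).homeomorph.injective h3
    exact congrArg Subtype.val h4
  have hspec : ∀ x x' : X', f x' ∈ U → f x ⤳ f x' → x ⤳ x' := by
    intro x x' hx' h
    have hx : f x ∈ U := h.mem_open U.2 hx'
    let a : (f ⁻¹ᵁ U : X'.Opens).toScheme := ⟨x, hx⟩
    let a' : (f ⁻¹ᵁ U : X'.Opens).toScheme := ⟨x', hx'⟩
    have h3 : (f ∣_ U) a ⤳ (f ∣_ U) a' := by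
      rw [← U.ι.isOpenEmbedding.isInducing.specializes_iff, key, key]
      exact h
    have h4 := ((f ∣_ U).homeomorph.isInducing.specializes_iff (x := a) (y := a')).1 h3
    exact h4.map continuous_subtype_val
  refine ⟨⟨fun x hx => ?_, fun x hx x' hx' h => ?_, fun y hy => ?_⟩, fun y hy => ⟨fun x x' hx hx' => ?_, ?_⟩⟩
  · have hxU : f x ∈ U := h2 hx
    rw [mem_genericPoints_iff] at hx ⊢
    intro y hy
    obtain ⟨x'', -, rfl⟩ := hsur y (hy.mem_open U.2 hxU)
    rw [hx x'' (hspec _ _ hxU hy)]
  · exact hinj x x' (h2 hx) h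
  · obtain ⟨x, hx, rfl⟩ := hsur y (h1 hy)
    refine ⟨x, ?_, rfl⟩
    rw [mem_genericPoints_iff] at hy ⊢
    intro z hz
    exact hinj z x ((hz.map f.continuous).mem_open U.2 hx) (hy _ (hz.map f.continuous))
  · subst hx
    exact hinj x x' (h1 hy) hx'.symm
  · rintro x rfl
    have hx : f x ∈ U := h1 hy
    have := Groth.Agent.Dix.ContractSurf.isIso_stalkMap f U x hx
    have hb : Function.Bijective (f.stalkMap x).hom := ConcreteCategory.bijective_of_isIso (f.stalkMap x)
    refine ⟨(f.residueFieldMap _).hom.injective, fun y => ?_⟩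
    obtain ⟨z, rfl⟩ := X'.residue_surjective _ y
    obtain ⟨w, rfl⟩ := hb.2 z
    exact ⟨X.residue _ w, ConcreteCategory.congr_hom (Scheme.residue_residueFieldMap f x) w⟩

/-- A dense open of a Noetherian scheme contains a dense affine open. -/
theorem exists_dense_affine_le {X : Scheme.{u}} [IsNoetherian X] (R : X.Opens) (hR : Dense (R : Set X)) :
    ∃ U : X.Opens, U ≤ R ∧ IsAffineOpen U ∧ Dense (U : Set X) := by
  have hwf : WellFounded ((· > ·) : X.Opens → X.Opens → Prop) :=
    (inferInstance : TopologicalSpace.NoetherianSpace X).1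
  obtain ⟨U, ⟨hUR, hU⟩, hmax⟩ := hwf.has_min {U : X.Opens | U ≤ R ∧ IsAffineOpen U}
    ⟨⊥, bot_le, isAffineOpen_bot X⟩
  refine ⟨U, hUR, hU, ?_⟩
  rw [dense_iff_inter_open]
  by_contra hd
  push Not at hd
  obtain ⟨V, hV, hne, hVU⟩ := hd
  obtain ⟨y, hyV, hyR⟩ := hR.inter_open_nonempty V hV hne
  obtain ⟨W, hW, hyW, hWV⟩ := exists_isAffineOpen_mem_and_subset (X := X) (U := ⟨V, hV⟩ ⊓ R) (x := y)
    ⟨hyV, hyR⟩
  have hdisj : Disjoint U W := by
    rw [← TopologicalSpace.Opens.coe_disjoint, Set.disjoint_iff_inter_eq_empty]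
    rw [Set.eq_empty_iff_forall_notMem] at hVU ⊢
    exact fun z hz => hVU z ⟨(hWV hz.2).1, hz.1⟩
  have hUW := IsAffineOpen.sup_of_disjoint hU hW hdisj
  refine hmax (U ⊔ W) ⟨sup_le hUR fun z hz => (hWV hz).2, hUW⟩ (lt_of_le_of_ne le_sup_left ?_)
  intro h
  have hyU : y ∈ U := by
    have : y ∈ U ⊔ W := Or.inr hyW
    rwa [← h] at this
  exact Set.disjoint_left.mp (TopologicalSpace.Opens.coe_disjoint.mpr hdisj) hyU hyW

/-- Openness of a morphism being an isomorphism, locally on the target. -/
theorem isIso_restrict_of_local {X' X : Scheme.{u}} (f : X' ⟶ X) (U : X.Opens)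
    (h : ∀ x ∈ U, ∃ W : X.Opens, x ∈ W ∧ W ≤ U ∧ IsIso (f ∣_ W)) : IsIso (f ∣_ U) := by
  have key : ∀ x : (U : Scheme.{u}), ∃ W : (U : Scheme.{u}).Opens, x ∈ W ∧ IsIso ((f ∣_ U) ∣_ W) := by
    intro x
    obtain ⟨W, hxW, hWU, hW⟩ := h x.1 x.2
    refine ⟨U.ι ⁻¹ᵁ W, hxW, ?_⟩
    have h1 := (MorphismProperty.arrow_mk_iso_iff (MorphismProperty.isomorphisms Scheme.{u})
      (morphismRestrictRestrict f U (U.ι ⁻¹ᵁ W))).2
    apply h1
    have h2 : U.ι ''ᵁ (U.ι ⁻¹ᵁ W) = W := by
      rw [Scheme.Hom.image_preimage_eq_opensRange_inf, Scheme.Opens.opensRange_ι]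
      exact inf_eq_right.2 hWU
    rw [h2]
    exact hW
  exact IsZariskiLocalAtTarget.of_forall_exists_morphismRestrict (P := .isomorphisms _) key

/-- The normalization of a scheme in a dense affine open normal subscheme is an isomorphism over the normal
integral opens. -/
theorem isIso_fromNormalization_restrict {X : Scheme.{u}} [IsNoetherian X] (V : X.Opens)
    (hV : Dense (V : Set X)) (W : X.Opens) [IsIntegral (W : Scheme.{u})]
    (hW : ∀ x ∈ W, IsIntegrallyClosed (X.presheaf.stalk x)) :
    IsIso (V.ι.fromNormalization ∣_ W) := by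
  have hne : Nonempty (pullback V.ι W.ι : Scheme.{u}) := by
    have hW0 : ((W : Set X)).Nonempty := ⟨(genericPoint (W : Scheme.{u})).1, (genericPoint (W : Scheme.{u})).2⟩
    obtain ⟨y, hyW, hyV⟩ := hV.inter_open_nonempty (W : Set X) W.2 hW0
    obtain ⟨z, -, -⟩ := Scheme.Pullback.exists_preimage_pullback (f := V.ι) (g := W.ι)
      (⟨y, hyV⟩ : (V : Scheme.{u})) (⟨y, hyW⟩ : (W : Scheme.{u})) rfl
    exact ⟨z⟩
  have hint : IsIntegral (pullback V.ι W.ι : Scheme.{u}) := isIntegral_of_isOpenImmersion (pullback.snd V.ι W.ι)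
  have hst : ∀ y : (W : Scheme.{u}), IsIntegrallyClosed ((W : Scheme.{u}).presheaf.stalk y) := fun y => by
    have h0 : IsIntegrallyClosed (X.presheaf.stalk (W.ι y)) := hW y.1 y.2
    exact IsIntegrallyClosed.of_equiv (asIso (W.ι.stalkMap y)).commRingCatIsoToRingEquiv
  have h1 : IsIso (pullback.snd V.ι W.ι).fromNormalization :=
    Groth.Agent.Ega3B.NormalBirational.isIso_fromNormalization hst (pullback.snd V.ι W.ι)
      (genericPoint_eq_of_isOpenImmersion _) inferInstance
  have h2 : IsIso (pullback.snd V.ι.fromNormalization W.ι) := by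
    rw [← Scheme.Hom.normalizationPullback_snd] at h1
    exact IsIso.of_isIso_comp_left (V.ι.normalizationPullback W.ι) _
  change IsIso ((pullbackRestrictIsoRestrict V.ι.fromNormalization W).inv ≫ pullback.snd _ _)
  infer_instance

/-- Normalization of reduced Noetherian separated Nagata schemes whose regular locus is open. -/
theorem exists_norm {X : Scheme.{u}} [IsNoetherian X] [X.IsSeparated] [IsReduced X]
    (hN : ∀ U : X.affineOpens, CAlg.IsNagata Γ(X, U))
    (hopen : IsOpen {x : X | IsRegularLocalRing (X.presheaf.stalk x)}) :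
    ∃ (S' : Scheme.{u}) (ρ : S' ⟶ X), IsFinite ρ ∧ Pi1.IsNormalScheme S' ∧
      (∀ U : X.Opens, (∀ x : X, x ∈ U → IsRegularLocalRing (X.presheaf.stalk x)) → IsIso (ρ ∣_ U)) ∧
      ∃ U : X.Opens, (∀ x : X, x ∈ U → IsRegularLocalRing (X.presheaf.stalk x)) ∧
        Dense (U : Set X) ∧ Dense ((ρ ⁻¹ᵁ U : S'.Opens) : Set S') := by
  let R : X.Opens := ⟨{x : X | IsRegularLocalRing (X.presheaf.stalk x)}, hopen⟩
  have hR : Dense (R : Set X) := by
    refine Groth.Agent.Ega2.H303.SubIso.dense_of_maxPt fun η hη => ?_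
    have h1 : IsField (X.presheaf.stalk η) := isField_stalk_of_closure_mem_irreducibleComponents X η hη
    have h2 : IsDomain (X.presheaf.stalk η) := h1.isDomain
    have h3 : IsPrincipalIdealRing (X.presheaf.stalk η) := h1.isPrincipalIdealRing
    change IsRegularLocalRing (X.presheaf.stalk η)
    infer_instance
  obtain ⟨V, hVR, hVa, hV⟩ := exists_dense_affine_le R hR
  have : IsAffine (V : Scheme.{u}) := hVa
  have haff : IsAffineHom V.ι := by
    have : IsAffineHom (V.ι ≫ terminal.from X) := by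
      have : V.ι ≫ terminal.from X = terminal.from _ := Subsingleton.elim _ _
      rw [this]
      infer_instance
    exact IsAffineHom.of_comp V.ι (terminal.from X)
  have hreg : ∀ x : (V : Scheme.{u}), IsRegularLocalRing ((V : Scheme.{u}).presheaf.stalk x) := fun x =>
    (Groth.Agent.Models.RMOpen.stalk_openImmersion_iff V.ι x).1 (hVR x.2)
  have hVn : Pi1.IsNormalScheme (V : Scheme.{u}) := fun x => by
    have := hreg x
    exact ⟨(Groth.Agent.S2821.result _).1, Groth.Agent.S9829.result _⟩
  have hfin : IsFinite V.ι.fromNormalization :=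
    Groth.Agent.CurvesA.NormFinite.isFinite_fromNormalization V.ι (fun U hU S _ _ _ _ =>
      Groth.Agent.S0573.result Γ(X, U) (hN ⟨U, hU⟩) S)
  refine ⟨V.ι.normalization, V.ι.fromNormalization, hfin,
    Groth.Agent.An.H526.T3.isNormalScheme_normalization hVn V.ι, fun U hU => ?_, V, hVR, hV, ?_⟩
  · refine isIso_restrict_of_local _ U fun x hx => ?_
    have := hU x hx
    have : IsDomain (X.presheaf.stalk x) := (Groth.Agent.S2821.result _).1
    obtain ⟨U', hxU', hU'⟩ := Groth.Agent.S2260.result X x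
    have hint : IsIntegral (U' ⊓ U : X.Opens).toScheme := by
      have : Nonempty (U' ⊓ U : X.Opens).toScheme := ⟨⟨x, hxU', hx⟩⟩
      exact isIntegral_of_isOpenImmersion (X.homOfLE (inf_le_left : U' ⊓ U ≤ U'))
    refine ⟨U' ⊓ U, ⟨hxU', hx⟩, inf_le_right, isIso_fromNormalization_restrict V hV (U' ⊓ U) fun y hy => ?_⟩
    have := hU y hy.2
    exact Groth.Agent.S9829.result _
  · have h1 : Set.range V.ι.toNormalization ⊆ (V.ι.fromNormalization ⁻¹ᵁ V : V.ι.normalization.Opens) := by
      rintro _ ⟨y, rfl⟩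
      change V.ι.fromNormalization (V.ι.toNormalization y) ∈ V
      rw [← Scheme.Hom.comp_apply, Scheme.Hom.toNormalization_fromNormalization]
      exact y.2
    exact V.ι.toNormalization.denseRange.mono h1

end K377.NormSch
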