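import Groth.Agent.Resolve.K376.TraceSol

/-!
# The degree of a finite extension by a ring with rational singularities kills `H^1` of modifications
-/

set_option autoImplicit false

universe u

open CategoryTheory CategoryTheory.Limits AlgebraicGeometry TopologicalSpace Opposite

namespace K377.TraceDeg

open Groth.Agent.CurvesC Groth.Agent.CurvesC.ValCousin Groth.Agent.CurvesC.Sol Groth.Agent.CurvesC.CousinT
open Groth.Agent.CohqA.SheafH Groth.Agent.CurvesC.Cousin

/-- `n H^1(F) = 0` if `F` embeds into a flasque sheaf `K` such that `n` times a global section of `K/F` lifts to `K`. -/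
theorem nsmul_H_one {X : TopCat.{u}} {F K : CohTop.Ab X} (φ : F ⟶ K) [Mono φ] [TopCat.Sheaf.IsFlasque K] (n : ℕ)
    (h : ∀ t : (cokernel φ).obj.obj (op (⊤ : Opens X)), ∃ s : K.obj.obj (op (⊤ : Opens X)),
      (cokernel.π φ).hom.app (op ⊤) s = n • t) (x : Sheaf.H.{u} F 1) : n • x = 0 := by
  let S : ShortComplex (CohTop.Ab X) := ShortComplex.mk φ (cokernel.π φ) (cokernel.condition φ)
  have hS : S.ShortExact :=
    { exact := ShortComplex.exact_cokernel φ
      mono_f := inferInstance
      epi_g := inferInstance }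
  have hK : Subsingleton (HU K 1 (⊤ : Opens X)) := Groth.Agent.CohtopA.Flasque.subsingleton_HU_succ K ⊤ 0
  have key : ∀ x : HU F 1 (⊤ : Opens X), n • x = 0 := by
    intro x
    obtain ⟨y, rfl⟩ := exact₁ hS 0 ⊤ x (Subsingleton.elim _ _)
    obtain ⟨s, hs⟩ := h (H0 (cokernel φ) ⊤ y)
    have : n • y = map S.g 0 ⊤ ((H0 K ⊤).symm s) := by
      apply (H0 S.X₃ ⊤).injective
      rw [H0_map, map_nsmul]
      erw [AddEquiv.apply_symm_apply]
      exact hs.symm
    rw [← map_nsmul, this, δ_map]
  have h2 := key (HEquivHU F 1 (isTerminalTop (α := Opens X)) x)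
  rw [← map_nsmul] at h2
  exact (AddEquiv.map_eq_zero_iff _).1 h2

/-- **Cousin criterion**: on an integral compact scheme `n H^1(X, O_X) = 0` as soon as `n` times a Cousin problem on a
finite affine cover has a solution. -/
theorem nsmul_HH_one (X : Scheme.{u}) [IsIntegral X] [CompactSpace X] (m : ℕ)
    (h : ∀ (n : ℕ) (U : Fin n → X.Opens) (hη : ∀ i, genericPoint X ∈ U i), (∀ i, IsAffineOpen (U i)) → ⨆ i, U i = ⊤ →
      ∀ f : Fin n → X.functionField,
        (∀ i j, ∃ s : Γ(X, U i ⊓ U j),
          X.presheaf.germ (U i ⊓ U j) (genericPoint X) ⟨hη i, hη j⟩ s = f i - f j) →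
        ∃ g : X.functionField, ∀ i, ∃ s : Γ(X, U i), X.presheaf.germ (U i) (genericPoint X) (hη i) s = g - m • f i)
    (x : Coh.HH X (Coh.structureModule X) 1) : m • x = 0 := by
  refine nsmul_H_one (toGen X) m (fun t => ?_) x
  let Q := cokernel (toGen X)
  let p := cokernel.π (toGen X)
  -- local lifts
  have hloc : ∀ x : X, ∃ (W : X.Opens) (f : X.functionField), x ∈ W ∧ IsAffineOpen W ∧
      p.hom.app (op W) (cst W f) = Q.obj.map (homOfLE (le_top : W ≤ ⊤)).op t := by
    intro x
    have hepi : Epi p := inferInstance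
    have h1 := (TopCat.Sheaf.isLocallySurjective_iff_epi p).mpr hepi
    obtain ⟨V, hV, ⟨g, hg⟩, hxV⟩ := (TopCat.Presheaf.isLocallySurjective_iff (C := AddCommGrpCat.{u})
      (X := X.toPresheafedSpace.carrier) p.hom).mp h1 ⊤ t x trivial
    obtain ⟨W, hW, hxW, hWV'⟩ := exists_isAffineOpen_mem_and_subset (U := V) hxV
    have hWV : W ≤ V := hWV'
    have hη := mem_of_nonempty X W x hxW
    refine ⟨W, g ⟨hWV hη⟩, hxW, hW, ?_⟩
    have h2 : cst W (g ⟨hWV hη⟩) = (genSheaf (X := X) (genericPoint X) X.functionField).obj.map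
        (homOfLE hWV).op g := by
      funext h
      rfl
    rw [h2]
    refine (NatTrans.naturality_apply p.hom (homOfLE hWV).op g).trans ?_
    rw [hg]
    refine (ConcreteCategory.comp_apply _ _ _).symm.trans ?_
    rw [← Functor.map_comp]
    rfl
  choose W f hxW hW hf using hloc
  obtain ⟨T, hT⟩ := CompactSpace.elim_nhds_subcover (fun x => (W x : Set X)) fun x => (W x).2.mem_nhds (hxW x)
  let e := T.equivFin
  let U : Fin T.card → X.Opens := fun i => W (e.symm i)
  have hη : ∀ i, genericPoint X ∈ U i := fun i => mem_of_nonempty X _ _ (hxW _)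
  have hU : ⨆ i, U i = ⊤ := by
    rw [eq_top_iff]
    intro x _
    have : x ∈ ⋃ y ∈ T, (W y : Set X) := by rw [hT]; trivial
    simp only [Set.mem_iUnion] at this
    obtain ⟨y, hy, hxy⟩ := this
    refine Opens.mem_iSup.mpr ⟨e ⟨y, hy⟩, ?_⟩
    change x ∈ W (e.symm (e ⟨y, hy⟩))
    rw [Equiv.symm_apply_apply]
    exact hxy
  have hres : ∀ (V V' : X.Opens) (hV : V' ≤ V) (a : X.functionField),
      p.hom.app (op V') (cst V' a) = Q.obj.map (homOfLE hV).op (p.hom.app (op V) (cst V a)) := fun V V' hV a =>
    NatTrans.naturality_apply p.hom (homOfLE hV).op (cst (X := X.toPresheafedSpace.carrier) V a)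
  have hadd : ∀ (V : X.Opens) (a b : X.functionField),
      p.hom.app (op V) (cst V (a - b)) = p.hom.app (op V) (cst V a) - p.hom.app (op V) (cst V b) := fun V a b =>
    map_sub (p.hom.app (op V)).hom (cst V a) (cst V b)
  have hnsm : ∀ (V : X.Opens) (a : X.functionField),
      p.hom.app (op V) (cst V (m • a)) = m • p.hom.app (op V) (cst V a) := fun V a =>
    map_nsmul (p.hom.app (op V)).hom m (cst V a)
  obtain ⟨g, hg⟩ := h T.card U hη (fun i => hW _) hU (fun i => f (e.symm i)) (by
    intro i j
    obtain ⟨s, hs⟩ := exists_of_π_eq_zero (toGen X) (U i ⊓ U j) (cst (U i ⊓ U j) (f (e.symm i) - f (e.symm j))) (by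
      refine (hadd _ _ _).trans ?_
      rw [hres (U i) (U i ⊓ U j) inf_le_left, hres (U j) (U i ⊓ U j) inf_le_right, hf, hf, sub_eq_zero]
      refine ((ConcreteCategory.comp_apply _ _ _).symm.trans ?_).trans (ConcreteCategory.comp_apply _ _ _)
      rw [← Q.obj.map_comp, ← Q.obj.map_comp]
      rfl)
    exact ⟨s, congrFun hs ⟨⟨hη i, hη j⟩⟩⟩)
  refine ⟨cst ⊤ g, ?_⟩
  refine TopCat.Sheaf.eq_of_locally_eq' (C := AddCommGrpCat.{u})
    (show TopCat.Sheaf AddCommGrpCat.{u} X.toPresheafedSpace.carrier from Q) U ⊤ (fun i => homOfLE le_top)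
    hU.ge _ _ fun i => ?_
  obtain ⟨s, hs⟩ := hg i
  refine (hres ⊤ (U i) le_top g).symm.trans ?_
  have h5 : Q.obj.map (homOfLE (le_top : U i ≤ ⊤)).op (m • t) = m • Q.obj.map (homOfLE (le_top : U i ≤ ⊤)).op t :=
    map_nsmul (Q.obj.map (homOfLE (le_top : U i ≤ ⊤)).op).hom m t
  refine Eq.trans ?_ h5.symm
  rw [← hf, ← hnsm, ← sub_eq_zero]
  refine (hadd _ _ _).symm.trans ?_
  refine Eq.trans (congrArg _ ?_) (π_app_app (toGen X) (U i) s)
  funext h
  exact hs.symm

/-- If `m` times every Cousin problem over `A` is solvable then `m H^1(X, O_X) = 0` for every normal modification. -/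
theorem nsmul_HH_one_of_sol (A : Type u) [CommRing A] [IsDomain A] (m : ℕ)
    (h : ∀ (K : Type u) [Field K] [Algebra A K] [IsFractionRing A K], ∀ (σ : Type) [Finite σ] (T : σ → Finset K)
      (f : σ → K), (∀ V : ValuationSubring K, Contains A V → ∃ i, (T i : Set K) ⊆ V) →
      (∀ V : ValuationSubring K, Contains A V → ∀ i j, (T i : Set K) ⊆ V → (T j : Set K) ⊆ V → f i - f j ∈ V) →
      ∃ g, ∀ V : ValuationSubring K, Contains A V → ∀ i, (T i : Set K) ⊆ V → g - m • f i ∈ V)
    (X : Scheme.{u}) (f : X ⟶ Spec (CommRingCat.of A)) [IsProper f] [IsIntegral X] (hnorm : Pi1.IsNormalScheme X)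
    (hiso : ∃ U : (Spec (CommRingCat.of A)).Opens, (U : Set ↥(Spec (CommRingCat.of A))).Nonempty ∧ IsIso (f ∣_ U))
    (x : Coh.HH X (Coh.structureModule X) 1) : m • x = 0 := by
  have hcpt : CompactSpace X := QuasiCompact.compactSpace_of_compactSpace f
  let := (ValData.toK f).toAlgebra
  have hfrac : IsFractionRing A X.functionField := ValData.isFractionRing_toK f hiso
  refine nsmul_HH_one X m (fun n U hη hU hcov φ hφ => ?_) x
  choose T hT using fun i => ValData.exists_finset f (hU i) (hη i)
  obtain ⟨g, hg⟩ := h X.functionField (Fin n) T φ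
    (fun V hV => by
      obtain ⟨i, hi⟩ := ValData.exists_index f hV U hη hcov
      exact ⟨i, (hT i V hV).mpr hi⟩)
    (fun V hV i j hi hj => by
      obtain ⟨s, hs⟩ := hφ i j
      rw [← hs]
      exact ValData.mem_inter f (hU i) (hU j) (hη i) (hη j)
        ((hT i V hV).mp hi) ((hT j V hV).mp hj) s)
  refine ⟨g, fun i => ValData.exists_germ_eq hnorm (hU i) (hη i) _ fun V hV => ?_⟩
  have hVA : ∀ a, ValData.toK f a ∈ V := fun a => by
    rw [← ValData.germ_toSec f (U i) (hη i)]
    exact hV _
  exact hg V hVA i ((hT i V hVA).mpr hV)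

/-- The trace multiplies Cousin problems by the degree. -/
theorem exists_of_trace {K L : Type u} [Field K] [Field L] [Algebra K L] [FiniteDimensional K L] (A B : Type u)
    [CommRing A] [CommRing B] [Algebra A K] [Algebra B L]
    [Algebra A B] [Algebra A L] [IsScalarTower A K L] [IsScalarTower A B L] [Algebra.IsIntegral A B]
    (hB : Sol L B) {σ : Type} [Finite σ] (T : σ → Finset K)
    (f : σ → K) (hcov : ∀ V : ValuationSubring K, Contains A V → ∃ i, (T i : Set K) ⊆ V)
    (hf : ∀ V : ValuationSubring K, Contains A V → ∀ i j, (T i : Set K) ⊆ V → (T j : Set K) ⊆ V → f i - f j ∈ V) :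
    ∃ g, ∀ V : ValuationSubring K, Contains A V → ∀ i, (T i : Set K) ⊆ V → g - Module.finrank K L • f i ∈ V := by
  classical
  have hcomap : ∀ V' : ValuationSubring L, Contains B V' → Contains A (V'.comap (algebraMap K L)) := by
    intro V' hV' a
    rw [ValuationSubring.mem_comap, ← IsScalarTower.algebraMap_apply, IsScalarTower.algebraMap_apply A B L]
    exact hV' _
  have hsub : ∀ (V' : ValuationSubring L) (i : σ),
      ((((T i).image (algebraMap K L) : Finset L) : Set L) ⊆ V' ↔
        (T i : Set K) ⊆ (V'.comap (algebraMap K L) : ValuationSubring K)) := by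
    intro V' i
    rw [Finset.coe_image, Set.image_subset_iff]
    rfl
  obtain ⟨g', hg'⟩ := hB σ (fun i => (T i).image (algebraMap K L)) (fun i => algebraMap K L (f i))
    (fun V' hV' => by
      obtain ⟨i, hi⟩ := hcov _ (hcomap V' hV')
      exact ⟨i, (hsub V' i).2 hi⟩)
    (fun V' hV' i j hi hj => by
      have h1 := hf _ (hcomap V' hV') i j ((hsub V' i).1 hi) ((hsub V' j).1 hj)
      rw [ValuationSubring.mem_comap, map_sub] at h1
      exact h1)
  refine ⟨Algebra.trace K L g', fun V hV i hi => ?_⟩
  have h1 : IsIntegral V.toSubring (g' - algebraMap K L (f i)) := by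
    refine isIntegral_of_forall_mem (A := V.toSubring) (fun V' hV' => ?_)
    have h2 : ∀ x ∈ V, algebraMap K L x ∈ V' := fun x hx => hV' ⟨x, hx⟩
    refine hg' V' ?_ i ?_
    · intro b
      have h3 : IsIntegral A (algebraMap B L b) :=
        (Algebra.IsIntegral.isIntegral (R := A) b).map (IsScalarTower.toAlgHom A B L)
      refine Groth.Agent.MiscA.WCPlace.mem_of_isIntegral (R := A) V' (fun a => ?_) h3
      rw [IsScalarTower.algebraMap_apply A K L]
      exact h2 _ (hV a)
    · rw [hsub]
      intro x hx
      exact h2 x (hi hx)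
  have h2 : IsIntegral V.toSubring (Algebra.trace K L (g' - algebraMap K L (f i))) := Algebra.isIntegral_trace h1
  have h3 := Groth.Agent.MiscA.WCPlace.mem_of_isIntegral (R := V.toSubring) V (fun a => a.2) h2
  rwa [map_sub, Algebra.trace_algebraMap] at h3

/-- Cousin problems over a two-dimensional normal domain with rational singularities. -/
theorem sol_of_localization (B : Type u) [CommRing B] [IsDomain B]
    [IsNoetherianRing B] [IsIntegrallyClosed B] (hBN : CAlg.IsNagata B) (hdim : ringKrullDim B ≤ 2)
    (L : Type u) [Field L] [Algebra B L] [IsFractionRing B L]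
    (hB : ∀ (n : Ideal B) [n.IsMaximal], ringKrullDim (Localization.AtPrime n) = 2 →
      Curv2.IsRationalSing (Localization.AtPrime n)) : Sol L B := by
  have hinj : Function.Injective (algebraMap B L) := IsFractionRing.injective B L
  have hIC : IC (K := L) B := fun z hz => (isIntegrallyClosed_iff L).1 inferInstance hz
  intro σ _ T f hcov hf
  obtain ⟨g, hg⟩ := exists_good_of_local (K := L) (B := B) hinj hIC (fun i => (T i : Set L)) f
    (e := 1) one_ne_zero (fun V hV => hcov V hV.1) (fun q hq _ => by
      obtain ⟨n, hn, hqn⟩ := Ideal.exists_le_maximal q hq.ne_top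
      let Bn := Localization.AtPrime n
      let : Algebra Bn L := IsLocalization.localizationAlgebraOfSubmonoidLe Bn L n.primeCompl
        (nonZeroDivisors B) n.primeCompl_le_nonZeroDivisors
      have htow : IsScalarTower B Bn L := IsLocalization.localization_isScalarTower_of_submonoid_le Bn L
        n.primeCompl (nonZeroDivisors B) n.primeCompl_le_nonZeroDivisors
      have hfr : IsFractionRing Bn L :=
        IsFractionRing.isFractionRing_of_isDomain_of_isLocalization n.primeCompl Bn L
      have hnoeth : IsNoetherianRing Bn := IsLocalization.isNoetherianRing n.primeCompl Bn inferInstance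
      have hic : IsIntegrallyClosed Bn :=
        isIntegrallyClosed_of_isLocalization (R := B) (S := Bn) n.primeCompl n.primeCompl_le_nonZeroDivisors
      have hNn : CAlg.IsNagata Bn := Groth.Agent.Ega4B.NagBasic.isNagata_localization hBN n.primeCompl Bn
      -- `V ∈ LL q` contains `B_n`
      have hcon : ∀ V ∈ LL (K := L) q, Contains Bn V := by
        intro V hV z
        obtain ⟨b, t, rfl⟩ := IsLocalization.exists_mk'_eq n.primeCompl z
        have h1 : algebraMap Bn L (IsLocalization.mk' Bn b t) = algebraMap B L b * (algebraMap B L t)⁻¹ := by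
          have ht0 : algebraMap B L t ≠ 0 := by
            intro h0
            have h2 : (t : B) = 0 := IsFractionRing.injective B L (by rw [h0, map_zero])
            exact t.2 (h2 ▸ n.zero_mem)
          rw [eq_mul_inv_iff_mul_eq₀ ht0, IsScalarTower.algebraMap_apply B Bn L (t : B), ← map_mul,
            IsLocalization.mk'_spec, ← IsScalarTower.algebraMap_apply]
        rw [h1]
        exact V.mul_mem _ _ (hV.1 b) (hV.2 t fun htq => t.2 (hqn htq))
      have hconB : ∀ V : ValuationSubring L, Contains Bn V → Contains B V := by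
        intro V hV b
        rw [IsScalarTower.algebraMap_apply B Bn L]
        exact hV _
      by_cases hd : ringKrullDim Bn = 2
      · obtain ⟨g, hg⟩ := SolOfRat.sol_of_isRationalSing Bn hNn (hB n hd) L σ T f
          (fun V hV => hcov V (hconB V hV)) (fun V hV => hf V (hconB V hV))
        exact ⟨g, fun V hV i hi => hg V (hcon V hV) i hi⟩
      -- dimension at most one: `B_n` is a valuation ring
      have hle : Ring.KrullDimLE 1 Bn := by
        have h1 : ringKrullDim Bn ≤ 2 := by
          rw [IsLocalization.AtPrime.ringKrullDim_eq_height n]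
          exact (Ideal.height_le_ringKrullDim_of_ne_top hn.ne_top).trans hdim
        have h2 := IsLocalization.AtPrime.ringKrullDim_eq_height n Bn
        rw [h2] at h1 hd
        have h3 : n.height ≤ 2 := by
          rw [show (2 : WithBot ℕ∞) = ((2 : ℕ∞) : WithBot ℕ∞) from rfl] at h1
          exact WithBot.coe_le_coe.1 h1
        have h4 : n.height ≠ 2 := fun h => hd (by rw [h]; rfl)
        have h5 : n.height < 2 := lt_of_le_of_ne h3 h4
        have h6 : n.height ≤ 1 := by
          have h7 : n.height < 1 + 1 := by rwa [one_add_one_eq_two]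
          exact Order.le_of_lt_add_one h7
        rw [Ring.krullDimLE_iff, h2]
        exact WithBot.coe_le_coe.2 h6
      have hval : ValuationRing Bn := by
        by_cases hfield : IsField Bn
        · let := hfield.toField
          exact ValuationRing.of_field Bn
        · have hT : (IsIntegrallyClosed Bn ∧ ∃! P : Ideal Bn, P ≠ ⊥ ∧ P.IsPrime) ↔ ValuationRing Bn :=
            (IsDiscreteValuationRing.TFAE Bn hfield).out 3 1
          refine hT.1 ⟨hic, IsLocalRing.maximalIdeal Bn, ⟨?_, inferInstance⟩, fun P hP => ?_⟩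
          · rwa [Ne, ← IsLocalRing.isField_iff_maximalIdeal_eq]
          · exact IsLocalRing.eq_maximalIdeal (Ring.krullDimLE_one_iff_of_noZeroDivisors.1 hle P hP.1 hP.2)
      let A0 : ValuationSubring L := (ValuationRing.valuation Bn L).valuationSubring
      have hA0 : ∀ z : L, z ∈ A0 ↔ ∃ x : Bn, algebraMap Bn L x = z := fun z => ValuationRing.mem_integer_iff Bn L z
      obtain ⟨i, hi⟩ := hcov A0 (hconB A0 (fun b => (hA0 _).2 ⟨b, rfl⟩))
      refine ⟨f i, fun V hV j hj => hf V hV.1 i j (fun z hz => ?_) hj⟩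
      obtain ⟨x, hx⟩ := (hA0 z).1 (hi hz)
      rw [← hx]
      exact hcon V hV x)
  exact ⟨g, fun V hV i hi => hg V ⟨hV, by rw [map_one, inv_one]; exact V.one_mem⟩ i hi⟩

/-- The degree of a finite extension with rational singularities kills `H^1` of normal modifications. -/
theorem main (A B : Type u)
    [CommRing A] [CommRing B] [IsDomain A] [IsDomain B] [IsNoetherianRing B]
    [IsIntegrallyClosed B] (hBN : CAlg.IsNagata B) (hdim : ringKrullDim B ≤ 2)
    [Algebra A B] [Algebra.IsIntegral A B]
    (K L : Type u) [Field K] [Field L] [Algebra A K] [IsFractionRing A K] [Algebra B L] [IsFractionRing B L]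
    [Algebra K L] [Algebra A L] [IsScalarTower A K L] [IsScalarTower A B L] [FiniteDimensional K L]
    (hB : ∀ (n : Ideal B) [n.IsMaximal], ringKrullDim (Localization.AtPrime n) = 2 →
      Curv2.IsRationalSing (Localization.AtPrime n))
    (X : Scheme.{u}) (f : X ⟶ Spec (CommRingCat.of A)) [IsProper f] [IsIntegral X] (hnorm : Pi1.IsNormalScheme X)
    (hiso : ∃ U : (Spec (CommRingCat.of A)).Opens, (U : Set ↥(Spec (CommRingCat.of A))).Nonempty ∧ IsIso (f ∣_ U))
    (x : Coh.HH X (Coh.structureModule X) 1) : Module.finrank K L • x = 0 := by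
  have hsol := sol_of_localization B hBN hdim L hB
  refine nsmul_HH_one_of_sol A _ (fun K' _ _ _ σ _ T φ hcov hφ => ?_) X f hnorm hiso x
  -- transport along `K' ≃ K`
  classical
  let e : K' ≃ₐ[A] K := IsLocalization.algEquiv (nonZeroDivisors A) K' K
  have hsub : ∀ (V : ValuationSubring K) (i : σ), (((T i).image e : Finset K) : Set K) ⊆ V ↔
      (T i : Set K') ⊆ (V.comap (e : K' →+* K) : ValuationSubring K') := by
    intro V i
    rw [Finset.coe_image, Set.image_subset_iff]
    rfl
  have hcon : ∀ V : ValuationSubring K, Contains A V → Contains A (V.comap (e : K' →+* K)) := by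
    intro V hV a
    rw [ValuationSubring.mem_comap]
    change e (algebraMap A K' a) ∈ V
    rw [e.commutes]
    exact hV a
  obtain ⟨g, hg⟩ := exists_of_trace A B hsol (fun i => (T i).image e) (fun i => e (φ i))
    (fun V hV => by
      obtain ⟨i, hi⟩ := hcov _ (hcon V hV)
      exact ⟨i, (hsub V i).2 hi⟩)
    (fun V hV i j hi hj => by
      have h1 := hφ _ (hcon V hV) i j ((hsub V i).1 hi) ((hsub V j).1 hj)
      rw [ValuationSubring.mem_comap, map_sub] at h1
      exact h1)
  refine ⟨e.symm g, fun V hV i hi => ?_⟩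
  have h2 := hg (V.comap (e.symm : K →+* K')) (fun a => by
    rw [ValuationSubring.mem_comap]
    change e.symm (algebraMap A K a) ∈ V
    rw [e.symm.commutes]
    exact hV a) i (by
      intro x hx
      obtain ⟨y, hy, rfl⟩ := Finset.mem_image.1 (Finset.mem_coe.1 hx)
      change e.symm (e y) ∈ V
      rw [e.symm_apply_apply]
      exact hi hy)
  have h3 : e.symm (g - Module.finrank K L • e (φ i)) ∈ V := h2
  rwa [map_sub, map_nsmul, e.symm_apply_apply] at h3

end K377.TraceDeg
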