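import Groth.Prelude.Def_EGA4Misc
import Groth.Agent.CycB.AffinePt
import Groth.Agent.CycB.TrdegFrac
import Groth.Agent.S0554
import Groth.Agent.VarietyB.DimRing
import Mathlib.AlgebraicGeometry.Morphisms.FiniteType
import Mathlib.AlgebraicGeometry.Noetherian

/-!
# The dimension inequality for morphisms of finite type which are trivial on the residue fields at maximal points
-/

set_option autoImplicit false
universe u
open AlgebraicGeometry CategoryTheory TopologicalSpace

namespace K377.DimIneq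

open Groth.Agent.CycB.AffinePt Groth.Agent.CycB.TrdegFrac Groth.Agent.VarietyB.DimRing

theorem height_map_le {R S : Type u} [CommRing R] [IsNoetherianRing R] [CommRing S] [Algebra R S]
    [Algebra.FiniteType R S] (p0 p : Ideal R) (q P : Ideal S) [p0.IsPrime] [p.IsPrime] [q.IsPrime]
    [P.IsPrime] [lo1 : q.LiesOver p0] [lo2 : P.LiesOver p] (hqP : q ≤ P)
    (htr : Algebra.trdeg (R ⧸ p0) (S ⧸ q) = 0) :
    (P.map (Ideal.Quotient.mk q)).height ≤ p.height := by
  have hle : p0 ≤ p := by
    rw [lo1.over, lo2.over]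
    exact Ideal.comap_mono hqP
  have hft : Algebra.FiniteType (R ⧸ p0) (S ⧸ q) := by
    have h5 : Algebra.FiniteType R (S ⧸ q) := Algebra.FiniteType.of_surjective
      (Ideal.Quotient.mkₐ R q) Ideal.Quotient.mk_surjective
    exact Algebra.FiniteType.of_restrictScalars_finiteType R _ _
  have hfa : FaithfulSMul (R ⧸ p0) (S ⧸ q) := by
    rw [faithfulSMul_iff_algebraMap_injective, injective_iff_map_eq_zero]
    intro a ha
    obtain ⟨a, rfl⟩ := Ideal.Quotient.mk_surjective a
    rw [Ideal.Quotient.algebraMap_mk_of_liesOver, Ideal.Quotient.eq_zero_iff_mem] at ha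
    rw [Ideal.Quotient.eq_zero_iff_mem, lo1.over]
    exact ha
  have h1 := isPrime_map_quotient (q := q) (P := P) hqP
  have h2 := isPrime_map_quotient (q := p0) (P := p) hle
  have lo3 : (P.map (Ideal.Quotient.mk q)).LiesOver (p.map (Ideal.Quotient.mk p0)) := ⟨by
    have inj : Function.Injective (Ideal.comap (Ideal.Quotient.mk p0)) :=
      Ideal.comap_injective_of_surjective _ Ideal.Quotient.mk_surjective
    apply inj
    rw [comap_map_quotient hle, lo2.over, Ideal.under_def, Ideal.under_def, Ideal.comap_comap]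
    have h3 : (algebraMap (R ⧸ p0) (S ⧸ q)).comp (Ideal.Quotient.mk p0) =
      (Ideal.Quotient.mk q).comp (algebraMap R S) := rfl
    rw [h3, ← Ideal.comap_comap, comap_map_quotient hqP]⟩
  have key := Groth.Agent.S0554.result (R ⧸ p0) (S ⧸ q) (p.map (Ideal.Quotient.mk p0))
    (P.map (Ideal.Quotient.mk q))
  rw [htr, add_zero] at key
  have h4 : ((P.map (Ideal.Quotient.mk q)).height : Cardinal.{u}) ≤
      ((p.map (Ideal.Quotient.mk p0)).height : Cardinal.{u}) := le_self_add.trans key
  have h5 : (P.map (Ideal.Quotient.mk q)).height ≤ (p.map (Ideal.Quotient.mk p0)).height := by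
    exact_mod_cast h4
  exact h5.trans (height_map_quotient_le hle)

/-- A point of an affine open corresponding to a minimal prime of the sections is a maximal point. -/
theorem mem_genericPoints {Y : Scheme.{u}} {U : Y.Opens} (hU : IsAffineOpen U) {η : Y} (hη : η ∈ U)
    (h : evK η hη ∈ minimalPrimes Γ(Y, U)) : η ∈ genericPoints Y := by
  have h1 : IsIrreducible (closure {η} : Set Y) := isIrreducible_singleton.closure
  obtain ⟨Z, hZ, hηZ⟩ := exists_mem_irreducibleComponents_subset_of_isIrreducible _ h1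
  obtain ⟨ζ, hζ⟩ := QuasiSober.sober hZ.1 (isClosed_of_mem_irreducibleComponents _ hZ)
  have h2 : ζ ⤳ η := by
    rw [specializes_iff_mem_closure, hζ.def]
    exact hηZ (subset_closure rfl)
  have hζU : ζ ∈ U := h2.mem_open U.2 hη
  have h3 : evK ζ hζU ≤ evK η hη := evK_le_of_specializes hζU hη h2
  have h4 : evK ζ hζU = evK η hη := le_antisymm h3 (h.2 ⟨inferInstance, bot_le⟩ h3)
  have h5 : ζ = η := by
    rw [evK_eq_primeIdealOf hU, evK_eq_primeIdealOf hU] at h4
    have h6 : hU.primeIdealOf ⟨ζ, hζU⟩ = hU.primeIdealOf ⟨η, hη⟩ := PrimeSpectrum.ext h4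
    have h7 := hU.fromSpec_primeIdealOf ⟨ζ, hζU⟩
    rw [h6] at h7
    exact h7.symm.trans (hU.fromSpec_primeIdealOf ⟨η, hη⟩)
  subst h5
  change closure {ζ} ∈ irreducibleComponents Y
  rw [hζ.def]
  exact hZ

theorem residueFieldMap_comp_evaluation {X Y : Scheme.{u}} (f : X ⟶ Y) {V : Y.Opens} {U : X.Opens}
    (hUV : U ≤ f ⁻¹ᵁ V) {x : X} (hx : x ∈ U) (hx' : f x ∈ V) :
    (f.residueFieldMap x).hom.comp (Y.evaluation V (f x) hx').hom =
      (X.evaluation U x hx).hom.comp (f.appLE V U hUV).hom := by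
  rw [← CommRingCat.hom_comp, ← CommRingCat.hom_comp]
  congr 1
  rw [Scheme.evaluation_naturality, Scheme.Hom.appLE, Category.assoc]
  congr 1
  exact (X.presheaf.germ_res_assoc _ _ _ _).symm

theorem main {X Y : Scheme.{u}} (f : Y ⟶ X) [IsLocallyNoetherian X] [LocallyOfFiniteType f]
    (hf : ∀ η ∈ genericPoints Y, Function.Bijective (f.residueFieldMap η).hom) (y : Y) :
    ringKrullDim (Y.presheaf.stalk y) ≤ ringKrullDim (X.presheaf.stalk (f y)) := by
  have hYN : IsLocallyNoetherian Y := LocallyOfFiniteType.isLocallyNoetherian f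
  obtain ⟨V, hV, hyV, -⟩ := exists_isAffineOpen_mem_and_subset (X := X) (x := f y) (U := ⊤) trivial
  obtain ⟨U, hU, hyU, hUV⟩ := exists_isAffineOpen_mem_and_subset (X := Y) (x := y)
    (U := f ⁻¹ᵁ V) hyV
  have hN1 : IsNoetherianRing Γ(X, V) := IsLocallyNoetherian.component_noetherian ⟨V, hV⟩
  have hN2 : IsNoetherianRing Γ(Y, U) := IsLocallyNoetherian.component_noetherian ⟨U, hU⟩
  let algRS : Algebra Γ(X, V) Γ(Y, U) := (f.appLE V U hUV).hom.toAlgebra
  have hft : Algebra.FiniteType Γ(X, V) Γ(Y, U) := f.finiteType_appLE hV hU hUV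
  let alg1 : Algebra Γ(Y, U) (Y.presheaf.stalk y) := (Y.presheaf.germ U y hyU).hom.toAlgebra
  let alg2 : Algebra Γ(X, V) (X.presheaf.stalk (f y)) := (X.presheaf.germ V (f y) hyV).hom.toAlgebra
  have loc1 : IsLocalization.AtPrime (Y.presheaf.stalk y) (evK y hyU) := isLocalization_stalk_evK hU hyU
  have loc2 : IsLocalization.AtPrime (X.presheaf.stalk (f y)) (evK (f y) hyV) :=
    isLocalization_stalk_evK hV hyV
  rw [IsLocalization.AtPrime.ringKrullDim_eq_height (evK y hyU),
    IsLocalization.AtPrime.ringKrullDim_eq_height (evK (f y) hyV)]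
  obtain ⟨q, hq, hqP, hht⟩ := exists_minimalPrimes_height_eq (evK y hyU)
  have hqp : q.IsPrime := hq.1.1
  -- the point of `q`
  obtain ⟨η, hηU, hηq⟩ : ∃ (η : Y) (hηU : η ∈ U), evK η hηU = q := by
    let η : Y := hU.fromSpec ⟨q, hqp⟩
    have hηU : η ∈ U := by
      have := Set.mem_range_self (f := hU.fromSpec) (⟨q, hqp⟩ : PrimeSpectrum Γ(Y, U))
      rw [hU.range_fromSpec] at this
      exact this
    refine ⟨η, hηU, ?_⟩
    rw [evK_eq_primeIdealOf hU]
    have hpr : hU.primeIdealOf ⟨η, hηU⟩ = ⟨q, hqp⟩ :=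
      hU.fromSpec.isOpenEmbedding.injective (hU.fromSpec_primeIdealOf ⟨η, hηU⟩)
    rw [hpr]
  subst hηq
  have hgen : η ∈ genericPoints Y := mem_genericPoints hU hηU hq
  have hbij := hf η hgen
  have hηV : f η ∈ V := hUV hηU
  have comm0 := residueFieldMap_comp_evaluation f hUV hηU hηV
  have comm1 := residueFieldMap_comp_evaluation f hUV hyU hyV
  have lo1 : (evK η hηU).LiesOver (evK (f η) hηV) := ⟨by
    ext a
    change (X.evaluation V (f η) hηV).hom a = 0 ↔ (Y.evaluation U η hηU).hom (algebraMap Γ(X, V) Γ(Y, U) a) = 0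
    have e := RingHom.congr_fun comm0 a
    change (f.residueFieldMap η).hom ((X.evaluation V (f η) hηV).hom a) =
      (Y.evaluation U η hηU).hom (algebraMap Γ(X, V) Γ(Y, U) a) at e
    rw [← e, map_eq_zero (f.residueFieldMap η).hom]⟩
  have lo2 : (evK y hyU).LiesOver (evK (f y) hyV) := ⟨by
    ext a
    change (X.evaluation V (f y) hyV).hom a = 0 ↔ (Y.evaluation U y hyU).hom (algebraMap Γ(X, V) Γ(Y, U) a) = 0
    have e := RingHom.congr_fun comm1 a
    change (f.residueFieldMap y).hom ((X.evaluation V (f y) hyV).hom a) =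
      (Y.evaluation U y hyU).hom (algebraMap Γ(X, V) Γ(Y, U) a) at e
    rw [← e, map_eq_zero (f.residueFieldMap y).hom]⟩
  have htr : Algebra.trdeg (Γ(X, V) ⧸ evK (f η) hηV) (Γ(Y, U) ⧸ evK η hηU) = 0 := by
    rw [← trdeg_quotient Γ(X, V) Γ(Y, U) (X.residueField (f η)) (Y.residueField η)
      (X.evaluation V (f η) hηV).hom (Y.evaluation U η hηU).hom (f.residueFieldMap η).hom comm0
      (evaluation_frac hV hηV) (evaluation_frac hU hηU) (evK (f η) hηV) (evK η hηU) rfl rfl]
    let algK := (f.residueFieldMap η).hom.toAlgebra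
    have : Algebra.IsAlgebraic (X.residueField (f η)) (Y.residueField η) := ⟨fun z => by
      obtain ⟨w, rfl⟩ := hbij.2 z
      exact isAlgebraic_algebraMap w⟩
    exact trdeg_eq_zero
  rw [← hht]
  exact_mod_cast height_map_le (evK (f η) hηV) (evK (f y) hyV) (evK η hηU) (evK y hyU) hqP htr

/-- The dimension inequality for birational morphisms. -/
theorem of_isBirational {X Y : Scheme.{u}} (f : Y ⟶ X) [IsLocallyNoetherian X] [LocallyOfFiniteType f]
    (hf : RadPt.IsBirational f) (y : Y) :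
    ringKrullDim (Y.presheaf.stalk y) ≤ ringKrullDim (X.presheaf.stalk (f y)) :=
  main f (fun η hη => (hf.2 (f η) (hf.1.1 hη)).2 η rfl) y

end K377.DimIneq
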