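import Groth.Agent.Resolve.K377.ResQE
import Groth.Agent.Flat2C.Admissible
import Groth.Agent.Flat2C.Glob
import Groth.Agent.Models.RMOpen
import Groth.Agent.Ega4late.H532.Spread

/-!
# Resolving the singularities of codimension two of a normal scheme by one blow-up
-/

set_option autoImplicit false
universe u
open CategoryTheory CategoryTheory.Limits AlgebraicGeometry IsLocalRing TopologicalSpace

namespace K377.BlowCodim2

open Groth.Agent.Models.RMBlow Groth.Agent.Models.RMOpen

/-- Noetherian local integrally closed domains of dimension at most one are regular. -/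
theorem isRegular_of_normal (R : Type u) [CommRing R] [IsLocalRing R] [IsNoetherianRing R] [IsDomain R]
    [IsIntegrallyClosed R] (hd : ringKrullDim R ≤ 1) : IsRegularLocalRing R := by
  have h1 : IsPrincipalIdealRing R := by
    have hT : (IsIntegrallyClosed R ∧ ∀ P : Ideal R, P ≠ ⊥ → P.IsPrime → P = IsLocalRing.maximalIdeal R) ↔
        IsPrincipalIdealRing R := (tfae_of_isNoetherianRing_of_isLocalRing_of_isDomain R).out 3 0
    refine hT.mp ⟨inferInstance, ?_⟩
    intro P hP hPp
    have : Ring.KrullDimLE 1 R := Ring.krullDimLE_iff.mpr hd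
    have h2 := Ring.krullDimLE_one_iff_of_isPrime_bot.mp this P hP hPp
    exact IsLocalRing.eq_maximalIdeal h2
  infer_instance

/-- The maximal points of a closed subset of a Noetherian sober space form a finite set. -/
theorem finite_maximal {X : Type*} [TopologicalSpace X] [T0Space X] [QuasiSober X] [NoetherianSpace X]
    (Z : Set X) (hZ : IsClosed Z) : {x : X | x ∈ Z ∧ ∀ y ∈ Z, y ⤳ x → y = x}.Finite := by
  have : QuasiSober Z := hZ.isClosedEmbedding_subtypeVal.quasiSober
  have h1 : (genericPoints Z).Finite := genericPoints.finite NoetherianSpace.finite_irreducibleComponents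
  refine (h1.image Subtype.val).subset ?_
  rintro x ⟨hx, hmax⟩
  refine ⟨⟨x, hx⟩, ?_, rfl⟩
  have h2 : IsIrreducible (closure {(⟨x, hx⟩ : Z)} : Set Z) := isIrreducible_singleton.closure
  obtain ⟨W, hW, hxW⟩ := exists_mem_irreducibleComponents_subset_of_isIrreducible _ h2
  obtain ⟨ζ, hζ⟩ := QuasiSober.sober hW.1 (isClosed_of_mem_irreducibleComponents _ hW)
  have h3 : ζ ⤳ (⟨x, hx⟩ : Z) := by
    rw [specializes_iff_mem_closure, hζ.def]
    exact hxW (subset_closure rfl)
  have h4 : (ζ : X) = x := hmax _ ζ.2 (h3.map continuous_subtype_val)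
  have h5 : ζ = ⟨x, hx⟩ := Subtype.ext h4
  subst h5
  change closure {(⟨x, hx⟩ : Z)} ∈ irreducibleComponents Z
  rw [hζ.def]
  exact hW

/-- A resolvable local ring of a locally Noetherian scheme can be resolved by a blow-up with centre supported in the
closure of the point. -/
theorem exists_local_ideal {X : Scheme.{u}} [IsLocallyNoetherian X] (x : X)
    (h : Resolvable (X.presheaf.stalk x)) :
    ∃ 𝓘 : X.IdealSheafData, ((𝓘.support : Set X) ⊆ closure {x}) ∧
      ∀ (Y : Scheme.{u}) (b : Y ⟶ Spec (X.presheaf.stalk x)),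
        BlowUp.IsBlowUp b (𝓘.comap (X.fromSpecStalk x)) → ∀ y : Y, IsRegularLocalRing (Y.presheaf.stalk y) := by
  obtain ⟨I, ⟨n, hn⟩, Y, c, hc, hreg⟩ := h
  set f := X.fromSpecStalk x with hf
  have : IsNoetherianRing (X.presheaf.stalk x) := inferInstance
  have : IsLocallyNoetherian (Spec (X.presheaf.stalk x)) := inferInstance
  have : QuasiCompact f := inferInstance
  have hfl : Flat f := Groth.Agent.Fdesc.FlatStalk.flat_fromSpecStalk X x
  have : Mono f := inferInstance
  set J := Curv2.idealSheaf (X.presheaf.stalk x) I with hJ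
  have hcomap : (J.map f).comap f = J := by
    have := Groth.Agent.Picfga.IdealDescent.comap_map_of_isPullback
      (IsKernelPair.id_of_mono f) J
    rw [this, Scheme.IdealSheafData.comap_id, Scheme.IdealSheafData.map_id]
  refine ⟨J.map f, ?_, fun Y' b hb y => ?_⟩
  · rw [Scheme.IdealSheafData.support_map]
    change closure (f '' J.support) ⊆ closure {x}
    refine closure_minimal ?_ isClosed_closure
    rintro _ ⟨w, hw, rfl⟩
    have h1 : I ≤ w.asIdeal := (mem_support_idealSheaf I w).1 hw
    have h2 : maximalIdeal (X.presheaf.stalk x) ≤ w.asIdeal := fun r hr =>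
      w.isPrime.mem_of_pow_mem n (h1 (hn (Ideal.pow_mem_pow hr n)))
    have h3 : w = closedPoint (X.presheaf.stalk x) := by
      apply PrimeSpectrum.ext
      exact ((maximalIdeal.isMaximal _).eq_of_le w.isPrime.ne_top h2).symm
    rw [h3]
    exact subset_closure (Scheme.fromSpecStalk_closedPoint)
  · rw [hcomap] at hb
    obtain ⟨e, -⟩ := Groth.Agent.Divis.BlowUpFormal.exists_iso_of_isBlowUp hb hc
    have h3 := hreg (e.hom y)
    exact IsRegularLocalRing.of_ringEquiv (asIso (e.hom.stalkMap y)).commRingCatIsoToRingEquiv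

/-- Regularity over a point may be checked on the blow-up of the local scheme. -/
theorem isRegularLocalRing_of_local {X X' : Scheme.{u}} [IsLocallyNoetherian X] {b : X' ⟶ X}
    {𝓘 : X.IdealSheafData} (hb : BlowUp.IsBlowUp b 𝓘) (x : X)
    (h : ∀ (Y : Scheme.{u}) (c : Y ⟶ Spec (X.presheaf.stalk x)),
        BlowUp.IsBlowUp c (𝓘.comap (X.fromSpecStalk x)) → ∀ y : Y, IsRegularLocalRing (Y.presheaf.stalk y))
    (x' : X') (hx' : b x' = x) : IsRegularLocalRing (X'.presheaf.stalk x') := by
  set f := X.fromSpecStalk x with hf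
  have hfl : Flat f := Groth.Agent.Fdesc.FlatStalk.flat_fromSpecStalk X x
  have H : IsPullback (pullback.fst b f) (pullback.snd b f) b f := IsPullback.of_hasPullback b f
  have hb2 := Groth.Agent.Divis.BlowUpFormal.isBlowUp_of_isPullback hb H
  have : IsLocallyNoetherian X' :=
    Groth.Agent.Ega4dB.BlowFT.isLocallyNoetherian_of_isBlowUp hb
  obtain ⟨y, hy, -⟩ := Scheme.Pullback.exists_preimage_pullback (f := b) (g := f) x'
    (closedPoint (X.presheaf.stalk x)) (by rw [hx', hf, Scheme.fromSpecStalk_closedPoint])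
  subst hy
  apply isRegularLocalRing_stalk_of_flat
  exact h _ _ hb2 y

/-- Regularity of the local rings over an open over which the morphism is an isomorphism. -/
theorem isRegularLocalRing_of_isIso_restrict {X' X : Scheme.{u}} (b : X' ⟶ X) (U : X.Opens) [IsIso (b ∣_ U)]
    (x' : X') (h : b x' ∈ U) (hreg : IsRegularLocalRing (X.presheaf.stalk (b x'))) :
    IsRegularLocalRing (X'.presheaf.stalk x') := by
  have hop : IsOpenImmersion ((b ⁻¹ᵁ U).ι ≫ b) := by
    rw [← morphismRestrict_ι]
    infer_instance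
  let z : (b ⁻¹ᵁ U).toScheme := ⟨x', h⟩
  have h1 := (stalk_openImmersion_iff ((b ⁻¹ᵁ U).ι ≫ b) z).1 hreg
  exact (stalk_openImmersion_iff (b ⁻¹ᵁ U).ι z).2 h1

theorem main {X : Scheme.{u}} [IsNoetherian X]
    (hnor : ∀ x : X, IsDomain (X.presheaf.stalk x) ∧ IsIntegrallyClosed (X.presheaf.stalk x))
    (hres : ∀ x : X, ringKrullDim (X.presheaf.stalk x) = 2 → Resolvable (X.presheaf.stalk x))
    (hopen : IsOpen {x : X | IsRegularLocalRing (X.presheaf.stalk x)}) :
    ∃ 𝓘 : X.IdealSheafData,
      (𝓘.support : Set X) ⊆ closure {x : X | ¬ IsRegularLocalRing (X.presheaf.stalk x) ∧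
        ringKrullDim (X.presheaf.stalk x) = 2} ∧
      ∀ (X' : Scheme.{u}) (b : X' ⟶ X), BlowUp.IsBlowUp b 𝓘 →
        (∀ U : X.Opens, (∀ x : X, x ∈ U → IsRegularLocalRing (X.presheaf.stalk x)) → IsIso (b ∣_ U)) ∧
        ∀ x' : X', ringKrullDim (X.presheaf.stalk (b x')) ≤ 2 →
          IsRegularLocalRing (X'.presheaf.stalk x') := by
  classical
  set T : Set X := {x : X | ¬ IsRegularLocalRing (X.presheaf.stalk x) ∧ ringKrullDim (X.presheaf.stalk x) = 2}
    with hT
  have hcl : IsClosed {x : X | ¬ IsRegularLocalRing (X.presheaf.stalk x)} := hopen.isClosed_compl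
  -- singular points have dimension at least two
  have hge : ∀ x : X, ¬ IsRegularLocalRing (X.presheaf.stalk x) → 2 ≤ ringKrullDim (X.presheaf.stalk x) := by
    intro x hx
    by_contra hlt
    apply hx
    have := (hnor x).1
    have := (hnor x).2
    apply isRegular_of_normal
    rw [not_le] at hlt
    exact Order.le_of_lt_succ hlt
  have hfin : T.Finite := by
    refine (finite_maximal _ hcl).subset ?_
    rintro x ⟨hx, hx2⟩
    refine ⟨hx, fun y hy hyx => ?_⟩
    by_contra hne
    have h1 := Groth.Agent.Ega4late.H532.Spread.ringKrullDim_lt hyx hne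
    rw [hx2] at h1
    exact absurd (hge y hy) (not_le.2 h1)
  have hTcl : closure T ⊆ {x : X | ¬ IsRegularLocalRing (X.presheaf.stalk x)} :=
    closure_minimal (fun x hx => hx.1) hcl
  choose! K hK1 hK2 using fun (x : X) (hx : x ∈ T) => exists_local_ideal x (hres x hx.2)
  refine ⟨∏ x ∈ hfin.toFinset, K x, ?_, fun X' b hb => ⟨fun U hU => ?_, fun x' hx' => ?_⟩⟩
  · refine Groth.Agent.Flat2C.Glob.support_prod_subset _ _ _ fun x hx => ?_
    have hxT : x ∈ T := hfin.mem_toFinset.1 hx
    exact (hK1 x hxT).trans (closure_mono (Set.singleton_subset_iff.2 hxT))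
  · refine Groth.Agent.Divis.BlowUpFormal.isIso_morphismRestrict_compl_support hb U ?_
    rw [Set.disjoint_left]
    intro x hxU hxs
    refine hTcl ?_ (hU x hxU)
    refine Groth.Agent.Flat2C.Glob.support_prod_subset _ _ _ (fun x hx => ?_) hxs
    have hxT : x ∈ T := hfin.mem_toFinset.1 hx
    exact (hK1 x hxT).trans (closure_mono (Set.singleton_subset_iff.2 hxT))
  · by_cases hreg : IsRegularLocalRing (X.presheaf.stalk (b x'))
    · -- regular point of `X`
      let U : X.Opens := ⟨_, hopen⟩
      have hiso : IsIso (b ∣_ U) := by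
        refine Groth.Agent.Divis.BlowUpFormal.isIso_morphismRestrict_compl_support hb U ?_
        rw [Set.disjoint_left]
        intro x hxU hxs
        refine hTcl ?_ hxU
        refine Groth.Agent.Flat2C.Glob.support_prod_subset _ _ _ (fun x hx => ?_) hxs
        have hxT : x ∈ T := hfin.mem_toFinset.1 hx
        exact (hK1 x hxT).trans (closure_mono (Set.singleton_subset_iff.2 hxT))
      exact isRegularLocalRing_of_isIso_restrict b U x' hreg hreg
    · have hxT : b x' ∈ T := ⟨hreg, le_antisymm hx' (hge _ hreg)⟩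
      refine isRegularLocalRing_of_local hb (b x') (fun Y c hc => ?_) x' rfl
      apply hK2 (b x') hxT Y c
      have h1 : (∏ x ∈ hfin.toFinset, K x).comap (X.fromSpecStalk (b x')) =
          (K (b x')).comap (X.fromSpecStalk (b x')) := by
        rw [Groth.Agent.Flat2C.Admissible.comap_prod]
        refine Finset.prod_eq_single_of_mem (b x') (hfin.mem_toFinset.2 hxT) fun y hy hne => ?_
        have hyT : y ∈ T := hfin.mem_toFinset.1 hy
        rw [Scheme.IdealSheafData.one_eq_top, ← Scheme.IdealSheafData.support_eq_bot_iff,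
          Scheme.IdealSheafData.support_comap]
        rw [← SetLike.coe_set_eq, Closeds.coe_bot]
        rw [Set.eq_empty_iff_forall_notMem]
        intro w hw
        have hw1 : X.fromSpecStalk (b x') w ∈ closure {y} := hK1 y hyT hw
        have hw2 : X.fromSpecStalk (b x') w ⤳ b x' := by
          have h4 : X.fromSpecStalk (b x') w ∈ Set.range (X.fromSpecStalk (b x')) := ⟨w, rfl⟩
          rw [Scheme.range_fromSpecStalk] at h4
          exact h4
        have hw3 : y ⤳ b x' := (specializes_iff_mem_closure.2 hw1).trans hw2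
        have h5 := Groth.Agent.Ega4late.H532.Spread.ringKrullDim_lt hw3 hne
        rw [hyT.2, hxT.2] at h5
        exact lt_irrefl _ h5
      rw [h1] at hc
      exact hc

/-- The regular locus of a J-2 scheme is open. -/
theorem isOpen_regular {X : Scheme.{u}} (hJ : ∀ U : X.affineOpens, EGA4.IsJ2 Γ(X, U)) :
    IsOpen {x : X | IsRegularLocalRing (X.presheaf.stalk x)} := by
  rw [isOpen_iff_forall_mem_open]
  intro x hx
  obtain ⟨U, hU, hxU, -⟩ := exists_isAffineOpen_mem_and_subset (X := X) (x := x) (U := ⊤) trivial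
  have ho := isOpen_reg_of_isJ2 (hJ ⟨U, hU⟩) (𝟙 (Spec (CommRingCat.of Γ(X, U))))
  have hiff : ∀ q : Spec (CommRingCat.of Γ(X, U)), IsRegularLocalRing (X.presheaf.stalk (hU.fromSpec q)) ↔
      IsRegularLocalRing ((Spec (CommRingCat.of Γ(X, U))).presheaf.stalk q) := fun q =>
    stalk_openImmersion_iff hU.fromSpec q
  refine ⟨hU.fromSpec '' {q | IsRegularLocalRing ((Spec (CommRingCat.of Γ(X, U))).presheaf.stalk q)}, ?_,
    hU.fromSpec.isOpenEmbedding.isOpenMap _ ho, ?_⟩
  · rintro _ ⟨q, hq, rfl⟩
    exact (hiff q).2 hq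
  · have h2 : x ∈ Set.range hU.fromSpec := by
      rw [hU.range_fromSpec]
      exact hxU
    obtain ⟨q, rfl⟩ := h2
    exact ⟨q, (hiff q).1 hx, rfl⟩

end K377.BlowCodim2
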