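import Groth.Agent.ArSurf.K482.CurveDual
import Groth.Agent.ArSurf.K482.CanonVia
import Groth.Agent.ArSurf.K482.ConComp
import Groth.Agent.ArSurf.K482.Adj
import Groth.Agent.Canon.K769.DetComp
import Groth.Agent.Dual.H366.LciImm
import Groth.Agent.S1551
import Groth.Agent.Surf.K464.Sect
import Groth.Agent.Sga5.ProjSmooth

/-!
# The degree of a canonical sheaf of an integral proper curve over a field (helper377)

`E` an integral proper curve over a field `k` with a canonical sheaf `ω` (`Canon.IsCanonical`; so `E` is a local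
complete intersection over `k`): `χ(ω) = -χ(O_E)`.
-/

set_option autoImplicit false
universe u
open CategoryTheory CategoryTheory.Limits AlgebraicGeometry
open Groth.Agent

namespace K377.CanDeg

open K482.DetPic K482.ClosedPt K482.ConComp K482.CanonVia K482.Adj
open K561.LciDict Groth.Agent.Dual.H375.LciLocus

/-- a morphism with a canonical sheaf is lci -/
theorem isLCIMor_of_isCanonical {X Y : Scheme.{u}} {f : X ⟶ Y} {ω : X.Modules} (hω : Canon.IsCanonical f ω) :
    Dual3.IsLCIMor f := by
  obtain ⟨Z, i, g, c, n, h, hi, hg, hqc, hqs, -⟩ := hω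
  have hgs : Smooth g := SmoothOfRelativeDimension.smooth n g
  rw [isLCIMor_iff, ← h]
  exact LM_comp (K769.DetComp.LM_of_regular hi) (LM_smooth g)

/-- **Duality**: `χ(O_E) = -χ(ω)` for a canonical sheaf `ω` of an integral proper curve over a field. -/
theorem euler_canonical (k : Type u) [Field k] (E : Scheme.{u}) [E.Over (Spec (CommRingCat.of k))]
    [IsProper (E ↘ (Spec (CommRingCat.of k)))] [IsIntegral E] (hdim : topologicalKrullDim E = 1)
    {ω : E.Modules} (hω : Canon.IsCanonical (E ↘ (Spec (CommRingCat.of k))) ω) :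
    Curv2.euler k E (Coh.structureModule E) = - Curv2.euler k E ω := by
  have hNE : IsNoetherian E := CurvesB.CurveRR.isNoetherian_of_proper k E
  have hsep : E.IsSeparated := ⟨by
    have : IsSeparated (E ↘ (Spec (CommRingCat.of k))) := inferInstance
    rw [← terminal.comp_from (E ↘ (Spec (CommRingCat.of k)))]
    infer_instance⟩
  obtain ⟨A, hA⟩ := S1551.result E hdim
  obtain ⟨N, t, ht, hw⟩ := K464.Sect.exists_closedImmersion k E hA
  have hsm : SmoothOfRelativeDimension N (CohB1.ProjSpace.toSpec N k) := Groth.Agent.Sga5.ProjSmooth.smooth_toSpec N k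
  have hsm' : Smooth (CohB1.ProjSpace.toSpec N k) := SmoothOfRelativeDimension.smooth N _
  have hpr : IsProper (CohB1.ProjSpace.toSpec N k) := VarietyB.ProjSpaceProper.isProper_toSpec N k
  have hPN : IsLocallyNoetherian (CohB1.ProjSpace N k) :=
    LocallyOfFiniteType.isLocallyNoetherian (CohB1.ProjSpace.toSpec N k)
  have hlci := isLCIMor_of_isCanonical hω
  rw [← hw] at hlci
  have hr := Dual.H366.LciImm.isRegularClosedImmersion t (CohB1.ProjSpace.toSpec N k) hlci
  obtain ⟨m, w, hm, hrk, hχ, hvia⟩ := K482.CurveDual.exists_data k E hdim (CohB1.ProjSpace.toSpec N k) N t hr hw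
  have hcan : Canon.IsCanonical (E ↘ (Spec (CommRingCat.of k))) w :=
    canonical_of_via t (CohB1.ProjSpace.toSpec N k) hw (regImm_of_rank hr hrk) hsm hvia
  obtain ⟨e⟩ := canonical_unique hω hcan
  rw [hχ, Dix.InterNum.euler_congr _ _ hdim e]

/-- `deg ω = -2 χ(O_E)` -/
theorem deg_canonical (k : Type u) [Field k] (E : Scheme.{u}) [E.Over (Spec (CommRingCat.of k))]
    [IsProper (E ↘ (Spec (CommRingCat.of k)))] [IsIntegral E] (hdim : topologicalKrullDim E = 1)
    {ω : E.Modules} (hω : Canon.IsCanonical (E ↘ (Spec (CommRingCat.of k))) ω) :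
    Curv2.deg k E ω 1 = - 2 * Curv2.euler k E (Coh.structureModule E) := by
  have h := euler_canonical k E hdim hω
  unfold Curv2.deg
  push_cast
  linarith

end K377.CanDeg
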