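import Groth.Agent.ArSurf.K482.Adj
import Groth.Agent.ArSurf.K482.CanonVia
import Groth.Agent.ArSurf.K482.CurveVan
import Groth.Agent.Dual.H328.ClopenGlue
import Groth.Agent.S7833
import Groth.Agent.Ega1.AmpFamBlow
import Groth.Agent.Surf.K464.DegCurve

/-!
# Adjunction on a proper curve in a smooth surface over a field (helper377)

`Y → Spec k` smooth, `e : E → Y` a closed immersion with `L ⊗ I_E ≅ O_Y`, `W = Λ² Ω_Y`, `E` integral.
If `W|_E` is trivial then the smooth locus of relative dimension two contains `E`, and `L|_E` is a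
canonical sheaf of `E`.
-/

set_option autoImplicit false
universe u
open CategoryTheory CategoryTheory.Limits AlgebraicGeometry
open Groth.Agent

namespace K377.CrepGenus

open K482.DetPic K482.ClosedPt K482.ConComp K482.CanonVia K482.Adj
open Groth.Agent.Grpsch.PicGrp Groth.Agent.Divis

section

variable {k : Type u} [Field k] {Y : Scheme.{u}} (f : Y ⟶ Spec (CommRingCat.of k)) [Smooth f]

theorem mk_one_inv (X : Scheme.{u}) : PicF.IsInvertible (Coh.structureModule X) := by
  intro x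
  exact ⟨⊤, trivial, ⟨Scheme.Modules.restrictUnitIso _⟩⟩

theorem zls (d : ℕ) : IsZariskiLocalAtSource (@SmoothOfRelativeDimension.{u} d) :=
  HasRingHomProperty.instIsZariskiLocalAtSource (P := @SmoothOfRelativeDimension.{u} d)

/-- At a point `e x` where `e^* Λ²Ω ≅ O` the relative dimension is two. -/
theorem relDim_eq_two [QuasiSeparated f] {W : Y.Modules} (hW : ExtPow.IsExtPow 2 (Omega.sheaf f) W)
    {E : Scheme.{u}} (e : E ⟶ Y) (hcrep : Nonempty ((Scheme.Modules.pullback e).obj W ≅ Coh.structureModule E))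
    (x : E) : ∃ V : Y.Opens, e x ∈ V ∧ SmoothOfRelativeDimension 2 (V.ι ≫ f) := by
  obtain ⟨n, V, hx, hV⟩ := S7833.exists_relDim f (e x)
  have hΩ : FlatMod.IsFinLocFreeOfRank n (Omega.sheaf (V.ι ≫ f)) :=
    Dual.H339.OmegaRank.isFinLocFreeOfRank_omega n _
  obtain ⟨a⟩ := Dual.H328.ClopenGlue.nonempty_omega_restrict f V
  have h1 := Dual.H375.ExtRestr.isExtPow_restrict V hW
  have h2 : FlatMod.IsFinLocFreeOfRank n ((Omega.sheaf f).restrict V.ι) := Krr.H495.Rank.rank_iso a.symm hΩ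
  have h3 := Krr.H495.Rank.rank_extPow h2 h1
  obtain ⟨c⟩ := hcrep
  -- pull back to `e⁻¹ V`
  let e' : (e ⁻¹ᵁ V).toScheme ⟶ V.toScheme := e ∣_ V
  have h4 := Krr.H482.PullLambda.isFinLocFreeOfRank_pullback e' h3
  have h5 : Nonempty ((Scheme.Modules.pullback e').obj (W.restrict V.ι) ≅
      Coh.structureModule (e ⁻¹ᵁ V).toScheme) := by
    refine ⟨(Scheme.Modules.pullback e').mapIso ((Scheme.Modules.restrictFunctorIsoPullback V.ι).app W) ≪≫
      (Scheme.Modules.pullbackComp e' V.ι).app W ≪≫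
      (Scheme.Modules.pullbackCongr (show e' ≫ V.ι = (e ⁻¹ᵁ V).ι ≫ e from morphismRestrict_ι e V)).app W ≪≫
      ((Scheme.Modules.pullbackComp (e ⁻¹ᵁ V).ι e).app W).symm ≪≫
      (Scheme.Modules.pullback (e ⁻¹ᵁ V).ι).mapIso c ≪≫ ?_⟩
    exact (@asIso _ _ _ _ _ (isIso_pullOne (e ⁻¹ᵁ V).ι)).symm
  have h6 : FlatMod.IsFinLocFreeOfRank 1 ((Scheme.Modules.pullback e').obj (W.restrict V.ι)) := by
    rw [Ega2.QCohLocal.isFinLocFreeOfRank_one_iff]
    refine isInvertible_of_iso h5.some.symm ?_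
    have := mk_one_inv (e ⁻¹ᵁ V).toScheme
    exact this
  have : Nonempty (e ⁻¹ᵁ V).toScheme := ⟨⟨x, hx⟩⟩
  have h7 : n.choose 2 = 1 := Krr.H495.Rank.rank_unique h4 h6
  have h8 : n = 2 := by
    rcases Nat.lt_or_ge n 2 with h | h
    · rw [Nat.choose_eq_zero_of_lt h] at h7
      exact absurd h7 zero_ne_one
    · rcases Nat.eq_or_lt_of_le h with h | h
      · exact h.symm
      · exfalso
        have := Nat.choose_le_choose 2 h
        rw [h7] at this
        exact absurd this (by decide)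
  subst h8
  exact ⟨V, hx, hV⟩

/-- **Adjunction**: if `Λ²Ω_Y` is trivial along `E`, then `O_Y(E)|_E` is a canonical sheaf of `E`. -/
theorem isCanonical [IsSeparated f] {W : Y.Modules} (hW : ExtPow.IsExtPow 2 (Omega.sheaf f) W)
    {E : Scheme.{u}} (e : E ⟶ Y) [IsClosedImmersion e] [QuasiCompact (e ≫ f)]
    {L : Y.Modules} (hL : ClSub.IsInverseOf L (ClSub.idealMod e.ker))
    (hcrep : Nonempty ((Scheme.Modules.pullback e).obj W ≅ Coh.structureModule E)) :
    Canon.IsCanonical (e ≫ f) ((Scheme.Modules.pullback e).obj L) := by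
  choose V hx hV using relDim_eq_two f hW e hcrep
  let U : Y.Opens := iSup V
  have hU : SmoothOfRelativeDimension 2 (U.ι ≫ f) := by
    have := zls.{u} 2
    refine IsZariskiLocalAtSource.of_iSup_eq_top (P := @SmoothOfRelativeDimension.{u} 2)
      (fun x => U.ι ⁻¹ᵁ V x) ?_ fun x => ?_
    · refine eq_top_iff.2 fun y _ => ?_
      obtain ⟨x, hx⟩ := TopologicalSpace.Opens.mem_iSup.1 y.2
      exact TopologicalSpace.Opens.mem_iSup.2 ⟨x, hx⟩
    · have h1 : (U.ι ⁻¹ᵁ V x).ι ≫ U.ι ≫ f = (U.ι ∣_ V x) ≫ (V x).ι ≫ f := by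
        rw [← Category.assoc, ← Category.assoc, morphismRestrict_ι]
      rw [h1]
      have := hV x
      exact (inferInstance : SmoothOfRelativeDimension (0 + 2) ((U.ι ∣_ V x) ≫ ((V x).ι ≫ f)))
  have hr : Set.range e ⊆ Set.range U.ι := by
    rintro _ ⟨x, rfl⟩
    rw [Scheme.Opens.range_ι]
    exact TopologicalSpace.Opens.mem_iSup.2 ⟨x, hx x⟩
  obtain ⟨e', he'⟩ : ∃ e' : E ⟶ U.toScheme, e' ≫ U.ι = e :=
    ⟨IsOpenImmersion.lift U.ι e hr, IsOpenImmersion.lift_fac _ _ _⟩
  have : IsClosedImmersion e' := by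
    have : IsClosedImmersion (e' ≫ U.ι) := by rw [he']; infer_instance
    exact IsClosedImmersion.of_comp e' U.ι
  have H : IsPullback e' (𝟙 E) U.ι e := by
    refine IsPullback.of_isLimit (PullbackCone.IsLimit.mk (by rw [he', Category.id_comp])
      (fun s => s.snd) (fun s => ?_) (fun s => by simp) (fun s m _ h2 => by simpa using h2))
    rw [← cancel_mono U.ι, Category.assoc, he', ← s.condition]
  have hLinv := (Dix.IdealModCartier.isInvertible_of_isInverseOf hL).1
  have hIinv := (Dix.IdealModCartier.isInvertible_of_isInverseOf hL).2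
  have hI : Nonempty ((ClSub.idealMod e.ker).restrict U.ι ≅ ClSub.idealMod e'.ker) :=
    ⟨Smoothlim.ConormalRes.restrictIdealModIso H⟩
  have hI'inv : PicF.IsInvertible (ClSub.idealMod e'.ker) :=
    isInvertible_of_iso hI.some (Groth.Agent.Ega1.AmpFamBlow.isInvertible_restrict U.ι hIinv)
  have hEff : BlowUp.IsEffCartierIdeal e'.ker := Dix.IdealModCartier.isEffCartierIdeal_of_isInvertible hI'inv
  obtain ⟨hEr, hE1⟩ := isRegular_and_rank_of_isEff e' hEff
  have hΩ := Dual.H339.OmegaRank.isFinLocFreeOfRank_omega 2 (U.ι ≫ f)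
  have hft : LocallyOfFiniteType (e ≫ f) := inferInstance
  have hfac : e' ≫ U.ι ≫ f = e ≫ f := by rw [← Category.assoc, he']
  refine canonical_of_via e' (U.ι ≫ f) hfac (regImm_of_rank hEr hE1) hU ?_
  refine via_of_mk hE1 hΩ (Fdesc.LocGen.isInvertible_pullback e hLinv) ?_
  -- the determinant of the differentials
  obtain ⟨a⟩ := Dual.H328.ClopenGlue.nonempty_omega_restrict f U
  have hW' := Dual.H375.ExtRestr.isExtPow_restrict U hW
  have e1 : pull e' (det hΩ) = 1 := by
    obtain ⟨W₀, hW₀⟩ := K482.CanonTool.exists_isExtPow 2 (Krr.H495.Rank.isFinLocFree_of_rank hΩ)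
    have hW₀i := K482.CanonTool.isInvertible_extPow hΩ hW₀
    rw [← mk_eq_det hΩ hW₀ hW₀i, pull_mk, mk_eq_one_iff]
    obtain ⟨b⟩ := Dual.H328.ClopenGlue.nonempty_ext_restrict f U hW hW₀
    obtain ⟨c⟩ := hcrep
    exact ⟨(Scheme.Modules.pullback e').mapIso (b.symm ≪≫ (Scheme.Modules.restrictFunctorIsoPullback U.ι).app W) ≪≫
      (Scheme.Modules.pullbackComp e' U.ι).app W ≪≫
      (Scheme.Modules.pullbackCongr he').app W ≪≫ c⟩
  have e3 : det hE1 = pull e (mk _ hIinv) := by
    rw [pull_mk, det_rank_one hE1 (isInvertible_of_rank_one hE1), mk_eq_iff]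
    refine ⟨(Scheme.Modules.pullback e').mapIso (hI.some.symm ≪≫
      (Scheme.Modules.restrictFunctorIsoPullback U.ι).app _) ≪≫
      (Scheme.Modules.pullbackComp e' U.ι).app _ ≪≫
      (Scheme.Modules.pullbackCongr he').app _⟩
  have e4 : mk L hLinv * mk _ hIinv = 1 := by
    rw [mk_mul_mk, mk_eq_one_iff]
    exact hL
  rw [← pull_mk e hLinv, e1, e3, ← map_mul, e4, map_one]

end

end K377.CrepGenus
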