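import Groth.Agent.Dcoh.DerPush2
import Groth.Agent.PerfC.AffPushD
import Groth.Prelude.Def_ClSub2

/-!
# The morphism `O_Y ⟶ Rf_* O_X` and compositions
-/

set_option autoImplicit false

universe u

open CategoryTheory CategoryTheory.Limits AlgebraicGeometry

attribute [local instance] HasDerivedCategory.standard

namespace K377.DSplit

open Groth.Agent.Dcoh.DerSch Groth.Agent.Dcoh.DerPull Scheme.Modules

variable {X Y Z : Scheme.{u}}

/-- `O_Y[0] ⟶ f_* (O_X[0])` as complexes. -/
noncomputable def wc (f : X ⟶ Y) :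
    (HomologicalComplex.single Y.Modules (ComplexShape.up ℤ) 0).obj (Coh.structureModule Y) ⟶
      ((pushforward f).mapHomologicalComplex (ComplexShape.up ℤ)).obj
        ((HomologicalComplex.single X.Modules (ComplexShape.up ℤ) 0).obj (Coh.structureModule X)) :=
  (HomologicalComplex.single Y.Modules (ComplexShape.up ℤ) 0).map (ClSub.unitToPush f) ≫
    (HomologicalComplex.singleMapHomologicalComplex (pushforward f) (ComplexShape.up ℤ) 0).inv.app
      (Coh.structureModule X)

/-- The unit `O_Y ⟶ f_* O_X` of a composition. -/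
theorem unitToPush_comp (f : X ⟶ Y) (g : Y ⟶ Z) :
    ClSub.unitToPush (f ≫ g) ≫ (pushforwardComp f g).inv.app (Coh.structureModule X) =
      ClSub.unitToPush g ≫ (pushforward g).map (ClSub.unitToPush f) := by
  apply Scheme.Modules.hom_ext
  intro U
  ext s
  rfl

theorem wc_comp (f : X ⟶ Y) (g : Y ⟶ Z) :
    wc (f ≫ g) ≫ (Functor.mapHomologicalComplexCompIso (pushforwardComp f g) (ComplexShape.up ℤ)).inv.app _ =
      wc g ≫ ((pushforward g).mapHomologicalComplex (ComplexShape.up ℤ)).map (wc f) := by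
  apply HomologicalComplex.from_single_hom_ext
  simp only [wc, HomologicalComplex.comp_f, HomologicalComplex.singleMapHomologicalComplex_inv_app_self,
    HomologicalComplex.single_map_f_self, Category.assoc, Functor.map_comp,
    Functor.mapHomologicalComplex_map_f, Functor.mapHomologicalComplexCompIso_inv_app_f]
  congr 1

/-- `O_Y[0] ⟶ f_* (O_X[0])` in the homotopy category. -/
noncomputable def wh (f : X ⟶ Y) :
    (HomotopyCategory.singleFunctor Y.Modules 0).obj (Coh.structureModule Y) ⟶
      ((pushforward f).mapHomotopyCategory (ComplexShape.up ℤ)).obj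
        ((HomotopyCategory.singleFunctor X.Modules 0).obj (Coh.structureModule X)) :=
  (HomotopyCategory.quotient Y.Modules (ComplexShape.up ℤ)).map (wc f)

theorem wh_comp (f : X ⟶ Y) (g : Y ⟶ Z) :
    wh (f ≫ g) ≫ (Functor.mapHomotopyCategoryCompIso (pushforwardComp f g) (ComplexShape.up ℤ)).inv.app _ =
      wh g ≫ ((pushforward g).mapHomotopyCategory (ComplexShape.up ℤ)).map (wh f) :=
  ((Functor.map_comp _ _ _).symm.trans (congrArg _ (wc_comp f g))).trans (Functor.map_comp _ _ _)

/-- `O_X[0]` in the homotopy category. -/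
noncomputable abbrev OK (X : Scheme.{u}) : HomotopyCategory X.Modules (ComplexShape.up ℤ) :=
  (HomotopyCategory.singleFunctor X.Modules 0).obj (Coh.structureModule X)

/-- The morphism `O_Y ⟶ Rf_* O_X` in the derived category. -/
noncomputable def u (f : X ⟶ Y) [DCoh.HasRpush f] :
    DerivedCategory.Qh.obj (OK Y) ⟶ (DCoh.Rpush f).obj (DerivedCategory.Qh.obj (OK X)) :=
  DerivedCategory.Qh.map (wh f) ≫ (rpushUnit f).app (OK X)

theorem u_comp (f : X ⟶ Y) (g : Y ⟶ Z) [DCoh.HasRpush f] [DCoh.HasRpush g] [DCoh.HasRpush (f ≫ g)] :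
    u (f ≫ g) = u g ≫ (DCoh.Rpush g).map (u f) ≫ (rpushComp f g).hom.app (DerivedCategory.Qh.obj (OK X)) := by
  have h1 := rpushComp_fac f g (OK X)
  have h2 : DerivedCategory.Qh.map (((pushforward g).mapHomotopyCategory (ComplexShape.up ℤ)).map (wh f)) ≫
      (rpushUnit g).app (((pushforward f).mapHomotopyCategory (ComplexShape.up ℤ)).obj (OK X)) =
      (rpushUnit g).app (OK Y) ≫ (DCoh.Rpush g).map (DerivedCategory.Qh.map (wh f)) :=
    (rpushUnit g).naturality (wh f)
  have h3 := congrArg (DerivedCategory.Qh.map) (wh_comp f g)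
  rw [Functor.map_comp, Functor.map_comp] at h3
  rw [u, ← h1, u, u, Functor.map_comp, Category.assoc, Category.assoc, ← reassoc_of% h2, reassoc_of% h3]

/-- The morphism `O_Y ⟶ Rf_* O_X` as in the statement. -/
theorem u_eq (f : X ⟶ Y) [DCoh.HasRpush f] :
    (DerivedCategory.singleFunctor Y.Modules 0).map (ClSub.unitToPush f) ≫
        DerivedCategory.Qh.map ((HomotopyCategory.quotient Y.Modules (ComplexShape.up ℤ)).map
          ((HomologicalComplex.singleMapHomologicalComplex (Scheme.Modules.pushforward f) (ComplexShape.up ℤ) 0).inv.app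
            (Coh.structureModule X))) ≫
        ((DCoh.pushKh f).totalRightDerivedUnit DerivedCategory.Qh
          (HomotopyCategory.quasiIso X.Modules (ComplexShape.up ℤ))).app
          ((HomotopyCategory.singleFunctor X.Modules 0).obj (Coh.structureModule X)) = u f := by
  have h : DerivedCategory.Qh.map (wh f) =
      DerivedCategory.Qh.map ((HomotopyCategory.singleFunctor Y.Modules 0).map (ClSub.unitToPush f)) ≫
        DerivedCategory.Qh.map ((HomotopyCategory.quotient Y.Modules (ComplexShape.up ℤ)).map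
          ((HomologicalComplex.singleMapHomologicalComplex (Scheme.Modules.pushforward f) (ComplexShape.up ℤ) 0).inv.app
            (Coh.structureModule X))) :=
    (congrArg _ (Functor.map_comp (HomotopyCategory.quotient Y.Modules (ComplexShape.up ℤ)) _ _)).trans
      (Functor.map_comp _ _ _)
  exact ((congrArg (fun t => t ≫ (rpushUnit f).app (OK X)) h).trans (Category.assoc _ _ _)).symm

/-- If `O_Z ⟶ R(f ≫ g)_* O_X` splits then so does `O_Z ⟶ Rg_* O_Y`. -/
theorem isSplitMono_of_comp (f : X ⟶ Y) (g : Y ⟶ Z) [DCoh.HasRpush f] [DCoh.HasRpush g] [DCoh.HasRpush (f ≫ g)]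
    (h : IsSplitMono (u (f ≫ g))) : IsSplitMono (u g) := by
  obtain ⟨⟨r, hr⟩⟩ := h
  rw [u_comp, Category.assoc] at hr
  exact ⟨⟨_, hr⟩⟩

/-- `O_Z ⟶ R(f ≫ g)_* O_X` splits if `O_Z ≅ Rg_* O_Y` and `O_Y ⟶ Rf_* O_X` splits. -/
theorem isSplitMono_comp (f : X ⟶ Y) (g : Y ⟶ Z) [DCoh.HasRpush f] [DCoh.HasRpush g] [DCoh.HasRpush (f ≫ g)]
    (hf : IsSplitMono (u f)) (hg : IsIso (u g)) : IsSplitMono (u (f ≫ g)) := by
  rw [u_comp]
  infer_instance

/-- `O_X[0]` as a complex. -/
noncomputable abbrev OC (X : Scheme.{u}) : CochainComplex X.Modules ℤ :=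
  (HomologicalComplex.single X.Modules (ComplexShape.up ℤ) 0).obj (Coh.structureModule X)

theorem isQCoh_OC (X : Scheme.{u}) (n : ℤ) : Coh.IsQCoh ((OC X).X n) := by
  by_cases hn : n = 0
  · subst hn
    exact Groth.Agent.PerfA.QCohSerre.isQCoh_of_iso
      (HomologicalComplex.singleObjXSelf (ComplexShape.up ℤ) 0 (Coh.structureModule X)).symm
      (Groth.Agent.PerfA.QCohSerre.isQCoh_unit X)
  · exact Groth.Agent.PerfA.QCohSerre.isQCoh_of_isZero
      (HomologicalComplex.isZero_single_obj_X (ComplexShape.up ℤ) 0 _ _ hn)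

/-- The unit of `Rf_*` at `O_X` if `O_X` is `f_*`-acyclic. -/
theorem isIso_unit (f : X ⟶ Y) [QuasiCompact f] [QuasiSeparated f] [DCoh.HasRpush f]
    [HasInjectiveResolutions X.Modules]
    (h : ∀ i : ℕ, 0 < i → IsZero ((Coh.Rpush f i).obj (Coh.structureModule X))) :
    IsIso ((rpushUnit f).app (OK X)) := by
  refine Groth.Agent.S1035.result f (OC X) (isQCoh_OC X) (fun n i hi => ?_)
  by_cases hn : n = 0
  · subst hn
    exact (h i hi).of_iso ((Coh.Rpush f i).mapIso
      (HomologicalComplex.singleObjXSelf (ComplexShape.up ℤ) 0 (Coh.structureModule X)))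
  · have h1 := HomologicalComplex.isZero_single_obj_X (ComplexShape.up ℤ) 0 (Coh.structureModule X) n hn
    rw [IsZero.iff_id_eq_zero] at h1 ⊢
    rw [← (Coh.Rpush f i).map_id, h1, (Coh.Rpush f i).map_zero]

/-- `u f` is a split mono if `O_X` is `f_*`-acyclic and `O_Y ⟶ f_* O_X` splits. -/
theorem isSplitMono_u (f : X ⟶ Y) [QuasiCompact f] [QuasiSeparated f] [DCoh.HasRpush f]
    [HasInjectiveResolutions X.Modules]
    (h : ∀ i : ℕ, 0 < i → IsZero ((Coh.Rpush f i).obj (Coh.structureModule X)))
    (h0 : IsSplitMono (ClSub.unitToPush f)) : IsSplitMono (u f) := by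
  have h1 := isIso_unit f h
  have h2 : IsSplitMono (wc f) := by
    unfold wc
    infer_instance
  have h4 : IsSplitMono ((HomotopyCategory.quotient Y.Modules (ComplexShape.up ℤ)).map (wc f)) := inferInstance
  have h3 : IsSplitMono (wh f) := h4
  unfold u
  infer_instance

/-- `u f` is an isomorphism if `O_Y ≅ f_* O_X` and the higher direct images vanish. -/
theorem isIso_u (f : X ⟶ Y) [QuasiCompact f] [QuasiSeparated f] [DCoh.HasRpush f]
    [HasInjectiveResolutions X.Modules]
    (h : ∀ i : ℕ, 0 < i → IsZero ((Coh.Rpush f i).obj (Coh.structureModule X)))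
    (h0 : IsIso (ClSub.unitToPush f)) : IsIso (u f) := by
  have h1 := isIso_unit f h
  have h2 : IsIso (wc f) := by
    unfold wc
    infer_instance
  have h4 : IsIso ((HomotopyCategory.quotient Y.Modules (ComplexShape.up ℤ)).map (wc f)) := inferInstance
  have h3 : IsIso (wh f) := h4
  unfold u
  infer_instance

end K377.DSplit
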