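import Groth.Agent.Surf.K464.LocalNeg
import Groth.Agent.Surf.K457.BirNormal
import Groth.Agent.S8914
import Groth.Agent.S2431
import Groth.Agent.Lefpen.H416.NormalBase
import Groth.Prelude

/-!
# Negative definiteness of the exceptional curves over a normal local ring of dimension two (K377)

`e i : E i ⟶ Y` integral proper curves over a field `κ`, `π : Y ⟶ B`, `c : Spec κ ⟶ B` a monomorphism with
`e i ≫ π = s i ≫ c`.

* `gram`: `G i j = deg_{E i} O(E j)`; `gram_eq` for `i ≠ j`: the dimension of the functions on the intersection,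
  `gram_comm`, `gram_nonneg`, `gram_eq_zero_iff`.
* `exists_rows`: the rows of the divisor of a function.
* `main`: negative definiteness (Du Val, Mumford).
-/

set_option autoImplicit false
universe u
open CategoryTheory CategoryTheory.Limits AlgebraicGeometry Opposite TopologicalSpace

namespace K377.ExcNeg

open Groth.Agent.Grpsch.PicGrp Groth.Agent.Dix.IdealModCartier Groth.Agent Groth.Agent.Divis.EffCartier K464.Base
open K464.DegCurve K464.LocalNeg K464.NegDef Groth.Agent.Dix.InterNum Groth.Agent.Dix.InterSurf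

section two

variable {κ : Type u} [Field κ] {Y B : Scheme.{u}} {π : Y ⟶ B} {c : Spec (CommRingCat.of κ) ⟶ B} [Mono c]

/-- The length of the intersection only depends on the sum of the ideals. -/
theorem h0_inter_congr {E E' : Scheme.{u}} (e : E ⟶ Y) (e' : E' ⟶ Y) [IsClosedImmersion e] [IsClosedImmersion e']
    (s : E ⟶ Spec (CommRingCat.of κ)) (s' : E' ⟶ Spec (CommRingCat.of κ)) (hs : e ≫ π = s ≫ c)
    (hs' : e' ≫ π = s' ≫ c) (D D' : Y.IdealSheafData) (h : e.ker ⊔ D = e'.ker ⊔ D') :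
    h0 ((D.comap e).subschemeι ≫ s) = h0 ((D'.comap e').subschemeι ≫ s') := by
  have h1 : ((D.comap e).subschemeι ≫ e).ker = ((D'.comap e').subschemeι ≫ e').ker := by
    change (D.comap e).map e = (D'.comap e').map e'
    rw [map_comap_of_closed, map_comap_of_closed, h]
  obtain ⟨t, ht⟩ := exists_iso_of_ker_eq _ _ h1
  refine h0_congr _ _ t ?_
  rw [← cancel_mono c]
  simp only [Category.assoc]
  rw [← hs, ← hs']
  simp only [← Category.assoc] at ht ⊢
  rw [ht]

end two

section degree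

variable (k : Type u) [Field k] (Γ : Scheme.{u}) [Γ.Over (Spec (CommRingCat.of k))]
  [IsProper (Γ ↘ Spec (CommRingCat.of k))] [IsIntegral Γ] (hd : topologicalKrullDim Γ = 1)

include hd in
theorem degC_pull_ic {V : Scheme.{u}} (j : Γ ⟶ V) {D : V.IdealSheafData} (hD : BlowUp.IsEffCartierIdeal D)
    (h : j (genericPoint Γ) ∉ D.support) :
    degC k Γ (pull j (ic D hD)) = - (h0 ((D.comap j).subschemeι ≫ (Γ ↘ Spec (CommRingCat.of k))) : ℤ) := by
  rw [pull_ic j hD (isEff_comap j hD h), degC_ic k Γ hd, finrank_quotMod]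

end degree

section curves

variable (κ : Type u) [Field κ] {Y : Scheme.{u}}
  {ι : Type*} {E : ι → Scheme.{u}} {e : ∀ i, E i ⟶ Y} [∀ i, IsClosedImmersion (e i)]
  [∀ i, IsIntegral (E i)] (hE : ∀ i, topologicalKrullDim (E i) = 1)
  (s : ∀ i, E i ⟶ Spec (CommRingCat.of κ)) [hp : ∀ i, IsProper (s i)]
  (hC : ∀ i, BlowUp.IsEffCartierIdeal (e i).ker)
  (hdist : ∀ i j, i ≠ j → Set.range (e i) ≠ Set.range (e j))

omit [∀ i, IsClosedImmersion (e i)] [∀ i, IsIntegral (E i)] hp in
/-- The intersection numbers. -/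
noncomputable def gram (i j : ι) : ℤ := - @degC κ _ (E i) ⟨s i⟩ (pull (e i) (ic (e j).ker (hC j)))

include hE in
omit [∀ i, IsClosedImmersion (e i)] in
theorem gram_eq_deg (i j : ι) {L : Y.Modules} (hL : ClSub.IsInverseOf L (ClSub.idealMod (e j).ker)) :
    gram κ s hC i j = @Curv2.deg κ _ (E i) ⟨s i⟩ ((Scheme.Modules.pullback (e i)).obj L) 1 := by
  let _ : (E i).Over (Spec (CommRingCat.of κ)) := ⟨s i⟩
  have hp' : IsProper (E i ↘ Spec (CommRingCat.of κ)) := hp i
  have hLi : PicF.IsInvertible L := (isInvertible_of_isInverseOf hL).1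
  have h1 := mk_eq_ic_inv hL hLi (hC j)
  rw [gram, ← degC_inv κ (E i) (hE i), ← map_inv, ← h1, pull_mk, degC_mk]

include hE hdist in
omit [Field κ] hp in
theorem gp_notMem {i j : ι} (hij : i ≠ j) : (e i) (genericPoint (E i)) ∉ (e j).ker.support := by
  intro h
  have h1 := Dix.VertGeom.ker_eq_of_mem (e i) (e j) (hE i) (hE j) h
  apply hdist i j hij
  ext y
  rw [← Dix.VertGeom.mem_support_ker_iff (e i) y, h1]
  exact Dix.VertGeom.mem_support_ker_iff (e j) y

include hE hdist in
theorem gram_eq {i j : ι} (hij : i ≠ j) :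
    gram κ s hC i j = (h0 (((e j).ker.comap (e i)).subschemeι ≫ s i) : ℤ) := by
  let _ : (E i).Over (Spec (CommRingCat.of κ)) := ⟨s i⟩
  have hp' : IsProper (E i ↘ Spec (CommRingCat.of κ)) := hp i
  rw [gram, degC_pull_ic κ (E i) (hE i) (e i) (hC j) (gp_notMem hE hdist hij), neg_neg]
  rfl

include hE hdist in
theorem gram_comm {B : Scheme.{u}} {π : Y ⟶ B} {c : Spec (CommRingCat.of κ) ⟶ B} [Mono c]
    (hs : ∀ i, e i ≫ π = s i ≫ c) (i j : ι) : gram κ s hC i j = gram κ s hC j i := by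
  by_cases hij : i = j
  · rw [hij]
  · rw [gram_eq κ hE s hC hdist hij, gram_eq κ hE s hC hdist (Ne.symm hij),
      h0_inter_congr (e i) (e j) (s i) (s j) (hs i) (hs j) (e j).ker (e i).ker (sup_comm _ _)]

include hE hdist in
theorem gram_nonneg {i j : ι} (hij : i ≠ j) : 0 ≤ gram κ s hC i j := by
  rw [gram_eq κ hE s hC hdist hij]; positivity

include hE hdist in
/-- Curves which meet have positive intersection number. -/
theorem gram_pos {i j : ι} (hij : i ≠ j) (h : (Set.range (e i) ∩ Set.range (e j)).Nonempty) :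
    0 < gram κ s hC i j := by
  let _ : (E i).Over (Spec (CommRingCat.of κ)) := ⟨s i⟩
  have hp' : IsProper (E i ↘ Spec (CommRingCat.of κ)) := hp i
  obtain ⟨x, ⟨y, rfl⟩, hy⟩ := h
  rw [gram, Left.neg_pos_iff]
  exact degC_pull_ic_neg κ (E i) (hE i) (e i) (hC j) (gp_notMem hE hdist hij) y
    ((Dix.VertGeom.mem_support_ker_iff (e j) _).2 hy)

include hE hdist in
/-- Connectedness of the union of the curves in terms of intersection numbers. -/
theorem isConn_of_isPreconnected [Fintype ι] [DecidableEq ι]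
    (h : _root_.IsPreconnected (⋃ i, Set.range (e i))) : IsConn (gram κ s hC) := by
  intro S hS hSc
  by_contra hcon
  push Not at hcon
  have hcl : ∀ T : Finset ι, IsClosed (⋃ i ∈ T, Set.range (e i)) := fun T =>
    isClosed_biUnion_finset fun i _ => (e i).isClosedEmbedding.isClosed_range
  have hne : ∀ T : Finset ι, T.Nonempty → ((⋃ i, Set.range (e i)) ∩ ⋃ i ∈ T, Set.range (e i)).Nonempty := by
    rintro T ⟨i, hi⟩
    exact ⟨e i (genericPoint (E i)), Set.mem_iUnion.2 ⟨i, _, rfl⟩, Set.mem_biUnion hi ⟨_, rfl⟩⟩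
  have h1 := isPreconnected_closed_iff.1 h _ _ (hcl S) (hcl Sᶜ) (by
    intro x hx
    obtain ⟨i, hi⟩ := Set.mem_iUnion.1 hx
    by_cases hiS : i ∈ S
    · exact Or.inl (Set.mem_biUnion hiS hi)
    · exact Or.inr (Set.mem_biUnion (Finset.mem_compl.2 hiS) hi)) (hne S hS) (hne Sᶜ hSc)
  obtain ⟨x, -, hx1, hx2⟩ := h1
  obtain ⟨i, hi, hxi⟩ := Set.mem_iUnion₂.1 hx1
  obtain ⟨j, hj, hxj⟩ := Set.mem_iUnion₂.1 hx2
  have hij : i ≠ j := by rintro rfl; exact Finset.mem_compl.1 hj hi
  exact absurd (hcon i hi j hj) (gram_pos κ hE s hC hdist hij ⟨x, hxi, hxj⟩).ne'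

include hE hdist in
/-- A nonzero function vanishing on the `E i` gives an effective cycle with nonpositive rows. -/
theorem exists_rows [Fintype ι] [DecidableEq ι] [IsIntegral Y] [IsLocallyNoetherian Y]
    (hcomm : ∀ i j, gram κ s hC i j = gram κ s hC j i)
    (a : Γ(Y, ⊤)) (ha : a ≠ 0) (ha0 : ∀ i, (e i) (genericPoint (E i)) ∉ Y.basicOpen a) :
    ∃ z : ι → ℕ, (∀ i, 0 < z i) ∧ (∀ j, ∑ i, (z i : ℤ) * gram κ s hC i j ≤ 0) ∧
      ∀ j, (∃ v w : Y, v ∉ Y.basicOpen a ∧ (∀ i, v ∉ Set.range (e i)) ∧ v ⤳ w ∧ w ∈ Set.range (e j)) →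
        ∑ i, (z i : ℤ) * gram κ s hC i j < 0 := by
  set P : ι → Y.IdealSheafData := fun i => (e i).ker with hP
  set ξ : ι → Y := fun i => (e i) (genericPoint (E i)) with hξ
  have hmemP : ∀ i (v : Y), v ∈ (P i).support ↔ v ∈ Set.range (e i) := fun i v =>
    Dix.VertGeom.mem_support_ker_iff (e i) v
  have hξP : ∀ i, ξ i ∈ (P i).support := fun i => by rw [hmemP]; exact ⟨_, rfl⟩
  have hprime : ∀ i, ∀ J : Y.IdealSheafData, ξ i ∈ J.support → J ≤ P i := fun i J hJ =>
    (Dix.VertGeom.le_ker_iff (e i) J).2 hJ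
  obtain ⟨d, J, hJE, hDJ, hξJ⟩ := Dix.IdealQuot.exists_prod_mul P hC ξ hξP hprime (isEff_prin ha) Finset.univ
  have hsupp : ∀ v : Y, v ∉ Y.basicOpen a ↔ v ∈ (∏ i, P i ^ d i).support ∨ v ∈ J.support := by
    intro v
    rw [← mem_support_prin, hDJ, Scheme.IdealSheafData.support_mul]
    rfl
  have hrow : ∀ j, ∑ i, (d i : ℤ) * gram κ s hC i j = @degC κ _ (E j) ⟨s j⟩ (pull (e j) (ic J hJE)) := by
    intro j
    let _ : (E j).Over (Spec (CommRingCat.of κ)) := ⟨s j⟩
    have hp' : IsProper (E j ↘ Spec (CommRingCat.of κ)) := hp j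
    have hd := hE j
    have h1 : (1 : Pic Y) = (∏ i, ic (P i) (hC i) ^ d i) * ic J hJE := by
      rw [← ic_prin ha, ← ic_prod_pow Finset.univ P hC d, ← ic_mul (isEff_prod_pow Finset.univ P hC d) hJE]
      exact ic_congr _ _ hDJ
    have h2 := congrArg (fun c => degC κ (E j) (pull (e j) c)) h1
    beta_reduce at h2
    rw [map_one, degC_one, map_mul, degC_mul κ _ hd, map_prod, degC_prod κ _ hd] at h2
    have h3 : ∑ i, degC κ (E j) (pull (e j) (ic (P i) (hC i) ^ d i)) = - ∑ i, (d i : ℤ) * gram κ s hC i j := by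
      rw [← Finset.sum_neg_distrib]
      refine Finset.sum_congr rfl fun i _ => ?_
      rw [map_pow, degC_pow κ _ hd, hcomm i j, gram]
      ring
    rw [h3] at h2
    linarith
  refine ⟨d, fun i => ?_, fun j => ?_, fun j ⟨v, w, hv, hvC, hvw, hw⟩ => ?_⟩
  · rcases (hsupp (ξ i)).1 (ha0 i) with h | h
    · obtain ⟨j, -, hj, hj'⟩ := Dix.IdealQuot.support_prod P Finset.univ d _ h
      have : j = i := by
        by_contra hne
        exact gp_notMem hE hdist (Ne.symm hne) hj'
      rw [this] at hj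
      exact Nat.pos_of_ne_zero hj
    · exact (hξJ i (Finset.mem_univ i) h).elim
  · rw [hrow j]
    let _ : (E j).Over (Spec (CommRingCat.of κ)) := ⟨s j⟩
    have hp' : IsProper (E j ↘ Spec (CommRingCat.of κ)) := hp j
    exact degC_pull_ic_nonpos κ _ (hE j) _ hJE (hξJ j (Finset.mem_univ j))
  · rw [hrow j]
    let _ : (E j).Over (Spec (CommRingCat.of κ)) := ⟨s j⟩
    have hp' : IsProper (E j ↘ Spec (CommRingCat.of κ)) := hp j
    have hvJ : v ∈ J.support := by
      rcases (hsupp v).1 hv with h | h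
      · obtain ⟨i, -, -, hi⟩ := Dix.IdealQuot.support_prod P Finset.univ d _ h
        exact (hvC i ((hmemP i v).1 hi)).elim
      · exact h
    have hwJ : w ∈ J.support := hvw.mem_closed J.support.isClosed hvJ
    obtain ⟨y, hy⟩ := hw
    exact degC_pull_ic_neg κ _ (hE j) _ hJE (hξJ j (Finset.mem_univ j)) y (by rw [hy]; exact hwJ)

include hE hdist in
/-- Negative definiteness from a function. -/
theorem negDef_of_function [Fintype ι] [DecidableEq ι] [IsIntegral Y] [IsLocallyNoetherian Y]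
    (hcomm : ∀ i j, gram κ s hC i j = gram κ s hC j i)
    (hconn : IsConn (gram κ s hC)) (a : Γ(Y, ⊤)) (ha : a ≠ 0)
    (ha0 : ∀ i, (e i) (genericPoint (E i)) ∉ Y.basicOpen a)
    (hex : ∃ (j : ι) (v w : Y), v ∉ Y.basicOpen a ∧ (∀ i, v ∉ Set.range (e i)) ∧ v ⤳ w ∧ w ∈ Set.range (e j)) :
    IsNegDef (gram κ s hC) := by
  obtain ⟨z, h1, h2, h3⟩ := exists_rows κ hE s hC hdist hcomm a ha ha0
  obtain ⟨j, v, w, h4⟩ := hex
  exact negDef_of_pos_vector hcomm (fun i j hij => gram_nonneg κ hE s hC hdist hij) hconn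
    (fun i => (z i : ℤ)) (fun i => by exact_mod_cast h1 i) h2 ⟨j, h3 j ⟨v, w, h4⟩⟩

end curves

section main

/-- In a local domain of dimension two there is a prime ideal strictly between `0` and the maximal ideal. -/
theorem exists_prime (R : Type u) [CommRing R] [IsDomain R] [IsLocalRing R] (hdimR : ringKrullDim R = 2) :
    ∃ p : PrimeSpectrum R, p.asIdeal ≠ ⊥ ∧ p ≠ IsLocalRing.closedPoint R := by
  have h : (2 : ℕ) ≤ Order.krullDim (PrimeSpectrum R) := by
    change _ ≤ ringKrullDim R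
    rw [hdimR]; rfl
  obtain ⟨l, hl⟩ := Order.le_krullDim_iff.1 h
  have h01 : l ⟨0, by omega⟩ < l ⟨1, by omega⟩ := l.strictMono (by simp [Fin.lt_def])
  have h12 : l ⟨1, by omega⟩ < l ⟨2, by omega⟩ := l.strictMono (by simp [Fin.lt_def])
  refine ⟨l ⟨1, by omega⟩, fun h0 => ?_, fun h0 => ?_⟩
  · have h1 : (l ⟨0, by omega⟩).asIdeal < (l ⟨1, by omega⟩).asIdeal := h01
    rw [h0] at h1
    exact not_lt_bot h1
  · have h1 : (l ⟨1, by omega⟩).asIdeal < (l ⟨2, by omega⟩).asIdeal := h12
    rw [h0] at h1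
    exact absurd (IsLocalRing.le_maximalIdeal (l ⟨2, by omega⟩).2.ne_top) (not_le_of_gt h1)

variable (R : Type u) [CommRing R] [IsDomain R]
  [IsNoetherianRing R] [IsLocalRing R] [IsIntegrallyClosed R] (hdimR : ringKrullDim R = 2)
  (Y : Scheme.{u}) (π : Y ⟶ Spec (CommRingCat.of R)) [IsProper π] [IsIntegral Y]
  (U : (Spec (CommRingCat.of R)).Opens)
  (hU : ∀ p : Spec (CommRingCat.of R), p ∈ U ↔ p ≠ IsLocalRing.closedPoint R) (hbir : IsIso (π ∣_ U))

include hbir in
omit [IsDomain R] [IsNoetherianRing R] [IsLocalRing R] [IsIntegrallyClosed R] [IsProper π] [IsIntegral Y] in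
theorem exists_lift (p : Spec (CommRingCat.of R)) (hp : p ∈ U) : ∃ y : Y, π y = p := by
  obtain ⟨z, hz⟩ := (π ∣_ U).surjective ⟨p, hp⟩
  refine ⟨(π ⁻¹ᵁ U).ι z, ?_⟩
  rw [← Scheme.Hom.comp_apply, ← morphismRestrict_ι, Scheme.Hom.comp_apply, hz]
  rfl

include hdimR hU hbir in
theorem isPreconnected_fibre : _root_.IsPreconnected (π ⁻¹' {IsLocalRing.closedPoint R}) := by
  have hne : (U : Set (Spec (CommRingCat.of R))).Nonempty := by
    obtain ⟨p, -, hp⟩ := exists_prime R hdimR
    exact ⟨p, (hU p).2 hp⟩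
  have hN : Pi1.IsNormalScheme (Spec (CommRingCat.of R)) := Groth.Agent.Lefpen.H416.NormalBase.isNormalScheme_spec R
  have h1 := K457.BirNormal.isIso_app hN π U hne
  let y : Spec (CommRingCat.of R) := IsLocalRing.closedPoint R
  have h2 := (Groth.Agent.S2431.result π h1).1 y
  have h3 := isPreconnected_univ (α := π.fiber y)
  have h4 := h3.image (π.fiberι y) (π.fiberι _).continuous.continuousOn
  rw [Set.image_univ, Scheme.Hom.range_fiberι] at h4
  exact h4

include hdimR hU hbir in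
/-- Negative definiteness of the intersection form of the exceptional curves. -/
theorem main (r : ℕ) (E : Fin r → Scheme.{u}) (e : ∀ i, E i ⟶ Y) [∀ i, IsClosedImmersion (e i)]
    [∀ i, IsIntegral (E i)] (hE : ∀ i, topologicalKrullDim (E i) = 1)
    (s : ∀ i, E i ⟶ Spec (CommRingCat.of (IsLocalRing.ResidueField R)))
    (hs : ∀ i, e i ≫ π = s i ≫ Spec.map (CommRingCat.ofHom (IsLocalRing.residue R)))
    (hdist : ∀ i j, i ≠ j → Set.range (e i).base ≠ Set.range (e j).base)
    (hcov : ∀ y : Y, π.base y ∉ U → ∃ i, y ∈ Set.range (e i).base)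
    (L : Fin r → Y.Modules) (hL : ∀ j, ClSub.IsInverseOf (L j) (ClSub.idealMod (e j).ker))
    (x : Fin r → ℤ) (hx : x ≠ 0) :
    ∑ i, ∑ j, x i * x j *
      @Curv2.deg (IsLocalRing.ResidueField R) _ (E i) ⟨s i⟩ ((Scheme.Modules.pullback (e i)).obj (L j)) 1 < 0 := by
  have hci : IsClosedImmersion (Spec.map (CommRingCat.ofHom (IsLocalRing.residue R))) :=
    IsClosedImmersion.spec_of_surjective _ IsLocalRing.residue_surjective
  have hp : ∀ i, IsProper (s i) := by
    intro i
    have h1 : IsProper (s i ≫ Spec.map (CommRingCat.ofHom (IsLocalRing.residue R))) := by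
      rw [← hs i]; infer_instance
    exact IsProper.of_comp (s i) (Spec.map (CommRingCat.ofHom (IsLocalRing.residue R)))
  have hC : ∀ i, BlowUp.IsEffCartierIdeal (e i).ker := fun i =>
    (Groth.Agent.S8914.result _).1 (isInvertible_of_isInverseOf (hL i)).2
  have hdeg : ∀ i j, @Curv2.deg (IsLocalRing.ResidueField R) _ (E i) ⟨s i⟩
      ((Scheme.Modules.pullback (e i)).obj (L j)) 1 = gram (IsLocalRing.ResidueField R) s hC i j := fun i j =>
    (gram_eq_deg (IsLocalRing.ResidueField R) hE s hC i j (hL j)).symm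
  simp only [hdeg]
  have hcl : ∀ i (y : E i), π (e i y) = IsLocalRing.closedPoint R := by
    intro i y
    rw [← Scheme.Hom.comp_apply, hs i, Scheme.Hom.comp_apply]
    have h1 : s i y = (IsLocalRing.closedPoint (IsLocalRing.ResidueField R) :
      PrimeSpectrum (IsLocalRing.ResidueField R)) := Subsingleton.elim (α := PrimeSpectrum _) _ _
    rw [h1]
    exact IsLocalRing.comap_closedPoint (IsLocalRing.residue R)
  have hcov' : ∀ y : Y, π y = IsLocalRing.closedPoint R → ∃ i, y ∈ Set.range (e i) := by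
    intro y hy
    refine hcov y ?_
    intro h
    exact (hU _).1 h hy
  have hN : IsLocallyNoetherian Y := LocallyOfFiniteType.isLocallyNoetherian π
  have hUn : (⋃ i, Set.range (e i)) = π ⁻¹' {IsLocalRing.closedPoint R} := by
    ext y
    constructor
    · intro h
      obtain ⟨i, z, rfl⟩ := Set.mem_iUnion.1 h
      exact hcl i z
    · intro h
      obtain ⟨i, hi⟩ := hcov' y h
      exact Set.mem_iUnion.2 ⟨i, hi⟩
  have hconn : IsConn (gram (IsLocalRing.ResidueField R) s hC) := by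
    refine isConn_of_isPreconnected (IsLocalRing.ResidueField R) hE s hC hdist ?_
    rw [hUn]
    exact isPreconnected_fibre R hdimR Y π U hU hbir
  obtain ⟨p, hp0, hp1⟩ := exists_prime R hdimR
  obtain ⟨a, ha, ha0⟩ := Submodule.exists_mem_ne_zero_of_ne_bot hp0
  obtain ⟨v, hv⟩ := exists_lift R Y π U hbir p ((hU p).2 hp1)
  -- the function
  let a' : Γ(Spec (CommRingCat.of R), ⊤) := (Scheme.ΓSpecIso (CommRingCat.of R)).inv a
  have hbo : ∀ y : Y, y ∈ Y.basicOpen (π.appTop a') ↔ a ∉ (π y).asIdeal := by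
    intro y
    have h1 : π ⁻¹ᵁ ((Spec (CommRingCat.of R)).basicOpen a') = Y.basicOpen (π.appTop a') :=
      Scheme.preimage_basicOpen_top π a'
    rw [← h1]
    change π y ∈ (Spec (CommRingCat.of R)).basicOpen a' ↔ _
    rw [basicOpen_eq_of_affine']
    simp [a']
    rfl
  have hne0 : π.appTop a' ≠ 0 := by
    intro h0
    have hb : (⊥ : PrimeSpectrum R) ≠ IsLocalRing.closedPoint R := by
      intro hb
      apply hp0
      have h1 : p.asIdeal ≤ (IsLocalRing.closedPoint R).asIdeal := IsLocalRing.le_maximalIdeal p.2.ne_top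
      rw [← hb] at h1
      exact le_bot_iff.1 h1
    obtain ⟨y, hy⟩ := exists_lift R Y π U hbir (⊥ : PrimeSpectrum R) ((hU _).2 hb)
    have h1 : y ∈ Y.basicOpen (π.appTop a') := by
      rw [hbo, hy]
      exact ha0
    rw [h0, Scheme.basicOpen_zero] at h1
    exact h1
  have hclosed : ∀ y : Y, π y = IsLocalRing.closedPoint R → y ∉ Y.basicOpen (π.appTop a') := by
    intro y hy
    rw [hbo, hy, not_not]
    exact IsLocalRing.le_maximalIdeal p.2.ne_top ha
  refine negDef_of_function (IsLocalRing.ResidueField R) hE s hC hdist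
    (gram_comm (IsLocalRing.ResidueField R) hE s hC hdist hs) hconn (π.appTop a') hne0
    (fun i => hclosed _ (hcl i _)) ?_ x hx
  -- the strict transform
  have hcm : IsClosedMap π := π.isClosedMap
  have h1 : IsClosed (π '' closure {v}) := hcm _ isClosed_closure
  have h2 : (IsLocalRing.closedPoint R : Spec (CommRingCat.of R)) ∈ π '' closure {v} := by
    have h3 : (p : Spec (CommRingCat.of R)) ⤳ IsLocalRing.closedPoint R :=
      IsLocalRing.specializes_closedPoint p
    exact h3.mem_closed h1 ⟨v, subset_closure rfl, hv⟩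
  obtain ⟨w, hw, hw'⟩ := h2
  obtain ⟨j, hj⟩ := hcov' w hw'
  refine ⟨j, v, w, ?_, ?_, specializes_iff_mem_closure.2 hw, hj⟩
  · rw [hbo, hv, not_not]; exact ha
  · rintro i ⟨y, rfl⟩
    rw [hcl i y] at hv
    exact hp1 hv.symm

end main

end K377.ExcNeg
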