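import Groth.Agent.Fga.IntegralSub
import Groth.Agent.S2080
import Groth.Agent.S0414
import Groth.Agent.Variety.K430.DomDim
import Groth.Agent.Flat2E.GenericQS
import Groth.Prelude.Def_Mor2

/-!
# Generically finite closed subschemes of proper surjective schemes
-/

set_option autoImplicit false

universe u

open CategoryTheory CategoryTheory.Limits AlgebraicGeometry TopologicalSpace

namespace K377.Multisec

variable {X Y S : Scheme.{u}}

theorem isFinLocFree_restrict_of_le (f : X ⟶ S) {U V : S.Opens} (h : V ≤ U) (hf : Mor2.IsFinLocFree (f ∣_ U)) :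
    Mor2.IsFinLocFree (f ∣_ V) := by
  obtain ⟨h1, h2, h3⟩ := hf
  exact ⟨Groth.Agent.Flat2E.GenericQS.restrict_of_le @IsFinite f h h1,
    Groth.Agent.Flat2E.GenericQS.restrict_of_le @Flat f h h2,
    Groth.Agent.Flat2E.GenericQS.restrict_of_le @LocallyOfFinitePresentation f h h3⟩

theorem exists_multisection [IsIntegral S] (g : Y ⟶ S) [IsProper g] [Surjective g] :
    ∃ (Y₁ : Scheme.{u}) (i : Y₁ ⟶ Y) (U : S.Opens), IsClosedImmersion i ∧ IsIntegral Y₁ ∧ (U : Set S).Nonempty ∧
      Mor2.IsFinLocFree ((i ≫ g) ∣_ U) ∧ Surjective (i ≫ g) := by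
  let η := genericPoint S
  obtain ⟨y₀, hy₀⟩ := g.surjective η
  obtain ⟨z, hz⟩ := K430.DomDim.exists_closed_point_fiber g η y₀ hy₀
  let y : Y := g.fiberι η z
  have hy : g y = η := by
    have h1 : y ∈ Set.range (g.fiberι η) := ⟨z, rfl⟩
    rw [Scheme.Hom.range_fiberι] at h1
    exact h1
  obtain ⟨Y₁, i, hi, hint, hgen, hran⟩ := Groth.Agent.Fga.IntegralSub.exists_integral_closed y
  have hfib : (i ≫ g) ⁻¹' {η} ⊆ {genericPoint Y₁} := by
    intro t ht
    have h1 : i t ∈ Set.range (g.fiberι η) := by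
      rw [Scheme.Hom.range_fiberι]
      exact ht
    obtain ⟨w, hw⟩ := h1
    have h2 : y ⤳ i t := by
      rw [specializes_iff_mem_closure, ← hran]
      exact ⟨t, rfl⟩
    have h3 : z ⤳ w := by
      rw [← (g.fiberι η).isEmbedding.isInducing.specializes_iff, hw]
      exact h2
    have h4 : w = z := by
      have := specializes_iff_mem_closure.1 h3
      rw [hz.closure_eq] at this
      exact this
    rw [h4] at hw
    exact i.injective (hw.symm.trans hgen.symm)
  have hηirr : closure {η} ∈ irreducibleComponents S := by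
    rw [show closure {η} = Set.univ from genericPoint_closure S, irreducibleComponents_eq_singleton]
    rfl
  obtain ⟨V, hV, hηV, hfin⟩ := (Groth.Agent.S2080.result (i ≫ g) η hηirr).1
    ((Set.finite_singleton _).subset hfib)
  obtain ⟨W, hW, hflat, hfp⟩ := Groth.Agent.S0414.result (i ≫ g)
  have hηW : η ∈ W := by
    obtain ⟨t, ht⟩ := hW.nonempty
    exact ((genericPoint_spec S).mem_open_set_iff W.2).mpr ⟨t, trivial, ht⟩
  have hsurj : Surjective (i ≫ g) := by
    have hdom : IsDominant (i ≫ g) := by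
      refine ⟨?_⟩
      rw [DenseRange, dense_iff_closure_eq, Set.eq_univ_iff_forall]
      intro s
      have h1 : η ⤳ s := genericPoint_specializes s
      refine closure_mono ?_ (specializes_iff_mem_closure.1 h1)
      rintro _ rfl
      exact ⟨genericPoint Y₁, by rw [Scheme.Hom.comp_apply, hgen, hy]⟩
    exact surjective_of_isDominant_of_isClosed_range _ (i ≫ g).isClosedMap.isClosed_range
  refine ⟨Y₁, i, V ⊓ W, hi, hint, ⟨η, hηV, hηW⟩, ⟨?_, ?_, ?_⟩, hsurj⟩
  · exact Groth.Agent.Flat2E.GenericQS.restrict_of_le @IsFinite _ inf_le_left hfin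
  · exact Groth.Agent.Flat2E.GenericQS.restrict_of_le @Flat _ inf_le_right hflat
  · exact Groth.Agent.Flat2E.GenericQS.restrict_of_le @LocallyOfFinitePresentation _ inf_le_right hfp

end K377.Multisec
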