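import Groth.Agent.S1284
import Groth.Agent.CurvesC.Modif
import Groth.Agent.Flat2C.Admissible
import Groth.Agent.Resolve.K377.Multisec

/-!
# Making generically finite morphisms finite locally free by a modification of the base
-/

set_option autoImplicit false

universe u

open CategoryTheory CategoryTheory.Limits AlgebraicGeometry TopologicalSpace

namespace K377.FlatAlt

open Groth.Agent.CurvesC.Modif Groth.Agent.Flat2C.StrictTr

variable {X S : Scheme.{u}}

theorem exists_modif [IsIntegral S] [CompactSpace S] [QuasiSeparatedSpace S]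
    (φ : X ⟶ S) [IsProper φ] [Surjective φ] (U : S.Opens) (hUc : IsCompact (U : Set S))
    (hU : (U : Set S).Nonempty) (hfl : Mor2.IsFinLocFree (φ ∣_ U)) :
    ∃ (S' : Scheme.{u}) (b : S' ⟶ S) (Z : Scheme.{u}) (q : Z ⟶ S') (r : Z ⟶ X),
      IsModif b ∧ Mor2.IsFinLocFree q ∧ Surjective q ∧ r ≫ φ = q ≫ b := by
  obtain ⟨𝓘, S', b, hb, hadm, H⟩ := Groth.Agent.S1284.result φ U hUc hfl
  obtain ⟨hft, hdis⟩ := hadm
  have hI : 𝓘 ≠ ⊥ := by
    rintro rfl
    obtain ⟨s, hs⟩ := hU
    rw [Scheme.IdealSheafData.support_bot] at hdis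
    exact Set.disjoint_left.1 hdis (Set.mem_univ s) hs
  have hbm : IsModif b := IsModif.of_isBlowUp hI hft hb
  have := hbm.integral
  let E : (pullback φ b).IdealSheafData := (𝓘.comap φ).comap (pullback.fst φ b)
  have hE : BlowUp.IsFiniteTypeIdeal E :=
    Groth.Agent.Flat2C.Admissible.isFT_comap (Groth.Agent.Flat2C.Admissible.isFT_comap hft φ) _
  have hfin : Mor2.IsFinLocFree ((killedIdeal E).subschemeι ≫ pullback.snd φ b) :=
    H _ _ _ (IsPullback.of_hasPullback φ b) (killedIdeal E) (isKilledIdeal_killedIdeal hE)
  have := hfin.1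
  refine ⟨S', b, (killedIdeal E).subscheme, (killedIdeal E).subschemeι ≫ pullback.snd φ b,
    (killedIdeal E).subschemeι ≫ pullback.fst φ b, hbm, hfin, ?_, by
      rw [Category.assoc, Category.assoc, pullback.condition]⟩
  have hdom : IsDominant ((killedIdeal E).subschemeι ≫ pullback.snd φ b) := by
    refine ⟨?_⟩
    rw [DenseRange, dense_iff_closure_eq, Set.eq_univ_iff_forall]
    intro s
    have h1 : genericPoint S' ⤳ s := genericPoint_specializes s
    refine closure_mono ?_ (specializes_iff_mem_closure.1 h1)
    rintro _ rfl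
    obtain ⟨x, hx⟩ := (pullback.snd φ b).surjective (genericPoint S')
    have hbs := hbm.surjective
    have hη : b (genericPoint S') = genericPoint S := by
      have h2 : DenseRange b := b.surjective.denseRange
      exact (genericPoint_spec S').image b.continuous |>.eq (by
        rw [Set.image_univ, h2.closure_range]
        exact genericPoint_spec S)
    have hxE : x ∈ compl E := by
      rw [mem_compl_iff]
      intro hx'
      have h3 : x ∈ (E.support : Set _) := hx'
      rw [Scheme.IdealSheafData.support_comap, Scheme.IdealSheafData.support_comap] at h3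
      have h4 : φ (pullback.fst φ b x) ∈ (𝓘.support : Set S) := h3
      rw [← Scheme.Hom.comp_apply, pullback.condition, Scheme.Hom.comp_apply, hx, hη] at h4
      refine Set.disjoint_left.1 hdis h4 ?_
      obtain ⟨t, ht⟩ := hU
      exact ((genericPoint_spec S).mem_open_set_iff U.2).mpr ⟨t, trivial, ht⟩
    have hmem : x ∈ Set.range (killedIdeal E).subschemeι := by
      rw [Scheme.IdealSheafData.range_subschemeι]
      exact (compl E).ι.range_subset_ker_support ⟨⟨x, hxE⟩, rfl⟩
    obtain ⟨w, hw⟩ := hmem
    exact ⟨w, by rw [Scheme.Hom.comp_apply, hw, hx]⟩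
  exact surjective_of_isDominant_of_isClosed_range _
    ((killedIdeal E).subschemeι ≫ pullback.snd φ b).isClosedMap.isClosed_range

end K377.FlatAlt
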