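import Groth.Agent.Sga67.FlatPre
import Groth.Agent.Sga67.KosConormal
import Groth.Agent.Divis.CartierStalk
import Groth.Agent.FlatA.AppIso
import Groth.Agent.Ega3B.NormalBirational
import Groth.Agent.Coh.K415.Birat
import Groth.Agent.CurvesC.DualIdeals
import Groth.Agent.CycB.StalkExact

/-!
# Relatively generated invertible ideals on modifications of normal schemes
-/

set_option autoImplicit false
universe u
open CategoryTheory CategoryTheory.Limits AlgebraicGeometry TopologicalSpace Opposite

namespace K377.FreeIdeal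

open Groth.Agent.Fdesc.PullbackStalk Groth.Agent.CycB Groth.Agent.Sga67.KosConormal
  Groth.Agent.Divis.CartierBasic Groth.Agent.PerfA.IdealModule

variable {X Y : Scheme.{u}}

/-- If `O(-V)` is generated relatively to `f`, its stalks are contained in any ideal containing the germs
of its sections over preimages of opens. -/
theorem stalkIdeal_le_of_epi_counit (f : Y ⟶ X) (V : Y.IdealSheafData)
    (he : Epi ((Scheme.Modules.pullbackPushforwardAdjunction f).counit.app (ClSub.idealMod V))) (y : Y)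
    (J : Ideal (Y.presheaf.stalk y))
    (hJ : ∀ (W : X.Opens) (hy : f y ∈ W) (s : Γ(ClSub.idealMod V, f ⁻¹ᵁ W)),
      Y.presheaf.germ (f ⁻¹ᵁ W) y hy (val V s) ∈ J) :
    stalkIdeal V y ≤ J := by
  let ε : (Scheme.Modules.pullback f).obj ((Scheme.Modules.pushforward f).obj (ClSub.idealMod V)) ⟶
    ClSub.idealMod V := (Scheme.Modules.pullbackPushforwardAdjunction f).counit.app (ClSub.idealMod V)
  have hε : Epi ε := he
  let ν : (ClSub.idealMod V).presheaf.stalk y →ₗ[Y.presheaf.stalk y] Y.presheaf.stalk y := vx V y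
  let ψ := ν ∘ₗ StalkExact.stalkLin ε y
  have hle : (⊤ : Submodule (Y.presheaf.stalk y) _) ≤ Submodule.comap ψ J := by
    rw [← span_range_canAdd, Submodule.span_le]
    rintro _ ⟨w, rfl⟩
    obtain ⟨W, hW, s, rfl⟩ := ((Scheme.Modules.pushforward f).obj (ClSub.idealMod V)).presheaf.exists_germ_eq w
    have h1 := Groth.Agent.Sga67.FlatPre.stalkMap_counit_canAdd f (ClSub.idealMod V) y
      (((Scheme.Modules.pushforward f).obj (ClSub.idealMod V)).presheaf.germ W (f y) hW s)
    have h2 : StalkExact.stalkLin ε y (canAdd f ((Scheme.Modules.pushforward f).obj (ClSub.idealMod V)) y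
          (((Scheme.Modules.pushforward f).obj (ClSub.idealMod V)).presheaf.germ W (f y) hW s)) =
        (ClSub.idealMod V).presheaf.germ (f ⁻¹ᵁ W) y hW s :=
      h1.trans (pushAdd_germ f _ y W hW s)
    have h3 : ν ((ClSub.idealMod V).presheaf.germ (f ⁻¹ᵁ W) y hW s) =
        Y.presheaf.germ (f ⁻¹ᵁ W) y hW (val V s) := vx_gm V hW s
    change ν (StalkExact.stalkLin ε y _) ∈ J
    rw [h2, h3]
    exact hJ W hW s
  have key : ∀ m : (ClSub.idealMod V).presheaf.stalk y, ν m ∈ J := by
    intro m
    obtain ⟨t, rfl⟩ := StalkExact.stalkLin_surjective ε y m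
    exact hle (Submodule.mem_top (x := t))
  obtain ⟨U, hU⟩ := exists_affine y
  rw [stalkIdeal_eq V U hU, Ideal.map_le_iff_le_comap]
  intro g hg
  obtain ⟨t, rfl⟩ := exists_val_eq V U hg
  have h3 : ν ((ClSub.idealMod V).presheaf.germ U.1 y hU t) =
      Y.presheaf.germ U.1 y hU (val V t) := vx_gm V hU t
  rw [Ideal.mem_comap]
  exact h3 ▸ key _

/-- Functions on preimages of affine opens for a proper birational morphism onto a normal scheme. -/
theorem surjective_app [IsIntegral X] [IsIntegral Y] (f : Y ⟶ X) [IsProper f] (hX : Pi1.IsNormalScheme X)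
    (hgen : f (genericPoint Y) = genericPoint X) (hb : IsIso (f.stalkMap (genericPoint Y)))
    (U : X.Opens) (hU : IsAffineOpen U) [Nonempty U] : Function.Surjective (f.app U) := by
  intro x
  exact Groth.Agent.Ega3B.NormalBirational.exists_app_eq_of_isIntegral (fun y => (hX y).2) f hgen hb U hU x
    (Groth.Agent.FlatA.AppIso.isIntegral_app f hU x)

/-- A relatively generated ideal on a modification of a normal scheme, whose support meets the fibre over
the closed point `P`, is contained in `m_P O_Y`. -/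
theorem main [IsIntegral X] [IsIntegral Y] (f : Y ⟶ X) [IsProper f] (hX : Pi1.IsNormalScheme X)
    (hgen : f (genericPoint Y) = genericPoint X) (hb : IsIso (f.stalkMap (genericPoint Y)))
    (P : X) (hPc : IsClosed ({P} : Set X)) (V : Y.IdealSheafData) (hPV : P ∈ f.base '' (V.support : Set Y))
    (hfree : Epi ((Scheme.Modules.pullbackPushforwardAdjunction f).counit.app (ClSub.idealMod V))) :
    V ≤ (Scheme.IdealSheafData.vanishingIdeal ⟨{P}, hPc⟩).comap f := by
  set K := Scheme.IdealSheafData.vanishingIdeal ⟨({P} : Set X), hPc⟩ with hK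
  rw [le_iff_stalkIdeal]
  intro y
  refine stalkIdeal_le_of_epi_counit f V hfree y _ fun W hy s => ?_
  rw [Groth.Agent.Divis.CartierStalk.stalkIdeal_comap]
  obtain ⟨U, hU, hyU, hUW⟩ := exists_isAffineOpen_mem_and_subset (X := X) (x := f y) (U := W) hy
  have hUW' : U ≤ W := hUW
  have : Nonempty U := ⟨⟨f y, hyU⟩⟩
  -- restrict the section to the affine open
  have e1 : Y.presheaf.germ (f ⁻¹ᵁ W) y hy (val V s) =
      Y.presheaf.germ (f ⁻¹ᵁ U) y hyU (Y.presheaf.map (homOfLE ((Opens.map f.base).monotone hUW')).op (val V s)) :=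
    (TopCat.Presheaf.germ_res_apply _ _ _ _ _).symm
  obtain ⟨a, ha⟩ := surjective_app f hX hgen hb U hU
    (Y.presheaf.map (homOfLE ((Opens.map f.base).monotone hUW')).op (val V s))
  rw [e1, ← ha]
  have e2 : Y.presheaf.germ (f ⁻¹ᵁ U) y hyU (f.app U a) = (f.stalkMap y).hom (X.presheaf.germ U (f y) hyU a) :=
    (ConcreteCategory.congr_hom (Scheme.Hom.germ_stalkMap f U y hyU) a).symm
  have hmem : a ∈ K.ideal ⟨U, hU⟩ := by
    rw [hK, Groth.Agent.CurvesC.DualIdeals.mem_vanishingIdeal_iff hPc ⟨U, hU⟩ a]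
    rintro x hx hxa
    obtain rfl : x = P := hx
    obtain ⟨z, hz, hzx⟩ := hPV
    have hz' : f z = x := hzx
    subst hz'
    have hzU : f z ∈ U := X.basicOpen_le a hxa
    have hzW : f z ∈ W := hUW hzU
    -- the germ of the section at `z` is not a unit
    have h1 : Y.presheaf.germ (f ⁻¹ᵁ W) z hzW (val V s) ∈ stalkIdeal V z := by
      obtain ⟨A, hA⟩ := exists_affine z
      rw [stalkIdeal_eq V A hA]
      have h3 : vx V z ((ClSub.idealMod V).presheaf.germ (f ⁻¹ᵁ W) z hzW s) =
        Y.presheaf.germ (f ⁻¹ᵁ W) z hzW (val V s) := vx_gm V hzW s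
      rw [← h3]
      exact vx_mem V z A hA _
    have h2 := (mem_support_iff_stalkIdeal_le V z).1 hz h1
    have e3 : Y.presheaf.germ (f ⁻¹ᵁ W) z hzW (val V s) = (f.stalkMap z).hom (X.presheaf.germ U (f z) hzU a) := by
      rw [show Y.presheaf.germ (f ⁻¹ᵁ W) z hzW (val V s) =
        Y.presheaf.germ (f ⁻¹ᵁ U) z hzU (Y.presheaf.map (homOfLE ((Opens.map f.base).monotone hUW')).op (val V s))
        from (TopCat.Presheaf.germ_res_apply _ _ _ _ _).symm, ← ha]
      exact (ConcreteCategory.congr_hom (Scheme.Hom.germ_stalkMap f U z hzU) a).symm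
    rw [e3] at h2
    have h4 : IsUnit (X.presheaf.germ U (f z) hzU a) := (Scheme.mem_basicOpen X a (f z) hzU).1 hxa
    exact (IsLocalRing.mem_maximalIdeal _).1 h2 (h4.map _)
  rw [e2]
  refine Ideal.mem_map_of_mem _ ?_
  rw [stalkIdeal_eq K ⟨U, hU⟩ hyU]
  exact Ideal.mem_map_of_mem _ hmem

end K377.FreeIdeal
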