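import Groth.Agent.CohqB.LocBaseRed
import Groth.Agent.CohtopB.TopStalk
import Groth.Agent.Ega3B.RpushAbCmp
import Groth.Agent.S4366
import Groth.Agent.S2821
import Groth.Agent.CurvesC.Modif
import Groth.Agent.Resolve.K377.FreeIdeal
import Groth.Agent.Resolve.K377.DSplit
import Groth.Agent.Fga.HShift
import Groth.Agent.Fga.UnitRestrict
import Groth.Agent.Flat2C.LqfDense
import Groth.Agent.ThetaS.K943.OpenCart

/-!
# Resolutions of schemes with rational singularities
-/

set_option autoImplicit false

universe u

open CategoryTheory CategoryTheory.Limits AlgebraicGeometry TopologicalSpace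

namespace K377.RatPush

open Groth.Agent.CurvesC.Modif

variable {W S : Scheme.{u}}

/-- The base change of an integral scheme dominating `S` to the local scheme of `S` is integral. -/
theorem isIntegral_pullback [IsIntegral S] [IsIntegral W] (π : W ⟶ S) (hgen : π (genericPoint W) = genericPoint S)
    (s : S) : IsIntegral (pullback π (S.fromSpecStalk s)) := by
  have hpre : IsPreimmersion (pullback.fst π (S.fromSpecStalk s)) :=
    MorphismProperty.of_isPullback (IsPullback.of_hasPullback π (S.fromSpecStalk s)).flip inferInstance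
  have hemb := (pullback.fst π (S.fromSpecStalk s)).isEmbedding
  have hηs : genericPoint S ∈ Set.range (S.fromSpecStalk s) := by
    rw [Scheme.range_fromSpecStalk]
    exact genericPoint_specializes s
  obtain ⟨t, ht⟩ := hηs
  obtain ⟨ξ, hξ, -⟩ := Scheme.Pullback.exists_preimage_pullback (f := π) (g := S.fromSpecStalk s)
    (genericPoint W) t (hgen.trans ht.symm)
  have hred : ∀ x : ↥(pullback π (S.fromSpecStalk s)),
      _root_.IsReduced ((pullback π (S.fromSpecStalk s)).presheaf.stalk x) := by
    intro x
    have h1 := Groth.Agent.S4366.result π s x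
    have h2 := (asIso ((pullback.fst π (S.fromSpecStalk s)).stalkMap x)).commRingCatIsoToRingEquiv
    exact isReduced_of_injective h2.symm h2.symm.injective
  have hR : IsReduced (pullback π (S.fromSpecStalk s)) := isReduced_of_isReduced_stalk _
  have hirr : IrreducibleSpace ↥(pullback π (S.fromSpecStalk s)) := by
    have hcl : closure {ξ} = Set.univ := by
      rw [Set.eq_univ_iff_forall]
      intro x
      rw [← specializes_iff_mem_closure, ← hemb.isInducing.specializes_iff, hξ]
      exact genericPoint_specializes _
    have h1 : IsIrreducible (Set.univ : Set ↥(pullback π (S.fromSpecStalk s))) := by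
      rw [← hcl]
      exact isIrreducible_singleton.closure
    exact { isPreirreducible_univ := h1.2, toNonempty := ⟨ξ⟩ }
  exact isIntegral_of_irreducibleSpace_of_isReduced _

/-- The higher direct images of the structure sheaf of a resolution vanish, for rational singularities. -/
theorem isZero_Rpush [IsIntegral S]
    (hrat : ∀ (s : S) (X : Scheme.{u}) (f : X ⟶ Spec (S.presheaf.stalk s)) [IsProper f] [IsIntegral X],
      (∀ x : X, IsRegularLocalRing (X.presheaf.stalk x)) →
      (∃ U : (Spec (S.presheaf.stalk s)).Opens, (U : Set (Spec (S.presheaf.stalk s))).Nonempty ∧ IsIso (f ∣_ U)) →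
      ∀ i : ℕ, 0 < i → Subsingleton (Coh.HH X (Coh.structureModule X) i))
    (π : W ⟶ S) (hπ : IsModif π) (hreg : ∀ w : W, IsRegularLocalRing (W.presheaf.stalk w))
    [HasInjectiveResolutions W.Modules] (i : ℕ) (hi : 0 < i) :
    IsZero ((Coh.Rpush π i).obj (Coh.structureModule W)) := by
  have := hπ.proper
  have := hπ.integral
  have := hπ.surjective
  rw [← Groth.Agent.Ega3B.RpushAbCmp.isZero_RpushAb_iff]
  refine Groth.Agent.CohtopB.TopStalk.isZero_of_stalks _ (fun s => ?_)
  refine Groth.Agent.CohqB.LocBaseRed.isZero_stalk_of_local π s (Coh.structureModule W)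
    (Groth.Agent.PerfA.QCohSerre.isQCoh_unit W) i (pullback.fst π (S.fromSpecStalk s))
    (pullback.snd π (S.fromSpecStalk s)) (IsPullback.of_hasPullback _ _) ?_
  have hgen : π (genericPoint W) = genericPoint S := by
    have h2 : DenseRange π := π.surjective.denseRange
    exact (genericPoint_spec W).image π.continuous |>.eq (by
      rw [Set.image_univ, h2.closure_range]
      exact genericPoint_spec S)
  have hint := isIntegral_pullback π hgen s
  refine Groth.Agent.Fga.HShift.subsingleton_of_iso
    (Groth.Agent.Fga.UnitRestrict.pullbackUnitIso (pullback.fst π (S.fromSpecStalk s))).symm i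
    (hrat s _ (pullback.snd π (S.fromSpecStalk s)) (fun x => ?_) ?_ i hi)
  · have h1 := Groth.Agent.S4366.result π s x
    have h2 := (asIso ((pullback.fst π (S.fromSpecStalk s)).stalkMap x)).commRingCatIsoToRingEquiv
    have h3 := hreg (pullback.fst π (S.fromSpecStalk s) x)
    exact IsRegularLocalRing.of_ringEquiv h2
  · obtain ⟨U, hU, hUi⟩ := hπ.exists_isIso
    obtain ⟨a, ha⟩ := Groth.Agent.Flat2C.LqfDense.exists_isPullback_restrict
      (IsPullback.of_hasPullback π (S.fromSpecStalk s)) U
    refine ⟨(S.fromSpecStalk s) ⁻¹ᵁ U, ?_, ?_⟩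
    · have hηs : genericPoint S ∈ Set.range (S.fromSpecStalk s) := by
        rw [Scheme.range_fromSpecStalk]
        exact genericPoint_specializes s
      obtain ⟨t, ht⟩ := hηs
      refine ⟨t, ?_⟩
      change S.fromSpecStalk s t ∈ U
      rw [ht]
      obtain ⟨v, hv⟩ := hU
      exact ((genericPoint_spec S).mem_open_set_iff U.2).mpr ⟨v, trivial, hv⟩
    · exact MorphismProperty.of_isPullback (P := MorphismProperty.isomorphisms Scheme.{u}) ha hUi

/-- `O_S ≅ π_* O_W` for a modification of a normal scheme. -/
theorem isIso_unitToPush [IsIntegral S] (hS : Pi1.IsNormalScheme S) (π : W ⟶ S) (hπ : IsModif π) :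
    IsIso (ClSub.unitToPush π) := by
  have := hπ.proper
  have := hπ.integral
  have := hπ.surjective
  obtain ⟨U, hU, hUi⟩ := hπ.exists_isIso
  obtain ⟨hgen, hiso⟩ := K415.Birat.generic_of_isIso_restrict π U hU hUi
  refine K943.OpenCart.isIso_of_bijective_affine _ (fun V hV => ?_)
  change Function.Bijective (π.app V)
  by_cases hne : (V : Set S).Nonempty
  · obtain ⟨v, hv⟩ := hne
    have : Nonempty V := ⟨⟨v, hv⟩⟩
    exact ⟨Groth.Agent.Ega3B.NormalBirational.app_injective π hgen hiso V,
      K377.FreeIdeal.surjective_app π hS hgen hiso V hV⟩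
  · have h0 : V = ⊥ := by
      ext x
      exact ⟨fun h => (hne ⟨x, h⟩).elim, fun h => h.elim⟩
    subst h0
    have h1 : Subsingleton Γ(W, π ⁻¹ᵁ ⊥) := inferInstanceAs (Subsingleton Γ(W, ⊥))
    exact ⟨fun a b _ => Subsingleton.elim (α := Γ(S, ⊥)) a b, fun b => ⟨0, Subsingleton.elim _ _⟩⟩

end K377.RatPush
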