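import Groth.Agent.Lipman.ResFinal
import Groth.Agent.Models.RMBlow
import Groth.Agent.Ega4dA.CplNormal
import Groth.Agent.S0547
import Groth.Agent.S0543

/-!
# Normal surface singularities with normal completion are resolved by one blow-up in a primary ideal
-/

set_option autoImplicit false
universe u
open CategoryTheory CategoryTheory.Limits AlgebraicGeometry IsLocalRing

namespace K377.ResQE

open Groth.Agent.Models.RMBlow

theorem resolvable_of_RES {A : Type u} [CommRing A] [IsDomain A] [IsLocalRing A]
    (h : Groth.Agent.Lipman.SchemeRes.RES A) : Resolvable A := by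
  obtain ⟨I, -, -, hI, hX⟩ := h.exists_isBlowUp
  obtain ⟨X, b, hb⟩ := Groth.Agent.Flat2C.BlowExist.exists_isBlowUp (𝓘 := Curv2.idealSheaf A I)
  exact ⟨I, hI, X, b, hb, (hX X b hb).2.2.1⟩

/-- A Noetherian local ring of dimension two whose completion is a normal domain has a primary ideal whose blow-up
is regular. -/
theorem resolvable (A : Type u) [CommRing A] [IsLocalRing A] [IsNoetherianRing A] (hdim : ringKrullDim A = 2)
    [IsDomain (Curv2.cpl A)] [IsIntegrallyClosed (Curv2.cpl A)] : Resolvable A := by
  have : IsNoetherianRing (Curv2.cpl A) := Groth.Agent.S0543.result A (maximalIdeal A)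
  have hd : ringKrullDim (Curv2.cpl A) = 2 := (Groth.Agent.S0547.result A).trans hdim
  have hflat : Module.Flat A (Curv2.cpl A) := AdicCompletion.flat_of_isNoetherian _
  refine Resolvable.descend (B := Curv2.cpl A) AdicCompletion.maximalIdeal_eq_map.symm (fun b => ?_)
    (resolvable_of_RES (Groth.Agent.Lipman.ResFinal.RES (Curv2.cpl A) hd))
  obtain ⟨r, hr⟩ := (AdicCompletion.residueField_map_bijective A).2 (residue _ b)
  obtain ⟨a, rfl⟩ := residue_surjective r
  refine ⟨a, ?_⟩
  rw [ResidueField.map_residue] at hr
  rw [← residue_eq_zero_iff, map_sub, ← hr]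
  exact sub_self _

theorem resolvable_of_isRegularHom (A : Type u) [CommRing A] [IsLocalRing A] [IsNoetherianRing A] [IsDomain A]
    [IsIntegrallyClosed A] (hdim : ringKrullDim A = 2) (h : CAlg.IsRegularHom A (Curv2.cpl A)) : Resolvable A := by
  obtain ⟨h1, h2⟩ := Groth.Agent.Ega4dA.CplNormal.normal_cpl A h
  exact resolvable A hdim

theorem resolvable_of_ringEquiv {A B : Type u} [CommRing A] [IsLocalRing A] [IsNoetherianRing A]
    [CommRing B] [IsLocalRing B] (e : A ≃+* B) (h : Resolvable B) : Resolvable A := by
  let algAB : Algebra A B := e.toRingHom.toAlgebra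
  have h1 : algebraMap A B = e.toRingHom := rfl
  have hl : IsLocalHom (algebraMap A B) := by
    rw [h1]; exact isLocalHom_of_leftInverse e.symm.toRingHom (fun x => e.symm_apply_apply x)
  have hf : Module.Flat A B := by
    have : (algebraMap A B).Flat := RingHom.Flat.of_bijective (by rw [h1]; exact e.bijective)
    exact this
  refine Resolvable.descend (B := B) (IsLocalRing.map_ringEquiv_maximalIdeal e) (fun b => ⟨e.symm b, ?_⟩) h
  rw [h1]
  change b - e (e.symm b) ∈ _
  rw [e.apply_symm_apply, sub_self]
  exact zero_mem _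

/-- The local rings of dimension two of a normal G-scheme are resolvable. -/
theorem resolvable_stalk {X : Scheme.{u}} (hG : ∀ U : X.affineOpens, CAlg.IsGRing Γ(X, U)) (x : X)
    (hnor : IsDomain (X.presheaf.stalk x) ∧ IsIntegrallyClosed (X.presheaf.stalk x))
    (hdim : ringKrullDim (X.presheaf.stalk x) = 2) : Resolvable (X.presheaf.stalk x) := by
  obtain ⟨U, hU, hxU, -⟩ := exists_isAffineOpen_mem_and_subset (X := X) (x := x) (U := ⊤) trivial
  have hGU := hG ⟨U, hU⟩
  have hN : IsNoetherianRing Γ(X, U) := hGU.1
  let alg1 : Algebra Γ(X, U) (X.presheaf.stalk x) := (X.presheaf.germ U x hxU).hom.toAlgebra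
  have hloc : IsLocalization.AtPrime (X.presheaf.stalk x) (hU.primeIdealOf ⟨x, hxU⟩).asIdeal :=
    hU.isLocalization_stalk ⟨x, hxU⟩
  let p := (hU.primeIdealOf ⟨x, hxU⟩).asIdeal
  let e : X.presheaf.stalk x ≃+* Localization.AtPrime p :=
    (IsLocalization.algEquiv p.primeCompl (X.presheaf.stalk x) (Localization.AtPrime p)).toRingEquiv
  have hNx : IsNoetherianRing (X.presheaf.stalk x) :=
    IsLocalization.isNoetherianRing p.primeCompl _ hN
  have h1 : IsDomain (Localization.AtPrime p) := by
    have := hnor.1
    exact MulEquiv.isDomain (X.presheaf.stalk x) e.symm.toMulEquiv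
  have h2 : IsIntegrallyClosed (Localization.AtPrime p) := by
    have := hnor.2
    have := hnor.1
    exact IsIntegrallyClosed.of_equiv e
  have h3 : ringKrullDim (Localization.AtPrime p) = 2 := by
    rw [← ringKrullDim_eq_of_ringEquiv e, hdim]
  exact resolvable_of_ringEquiv e (resolvable_of_isRegularHom _ h3 (hGU.2 p))

end K377.ResQE
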