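import Groth.Agent.Resolve.K377.QESch
import Groth.Agent.Resolve.K377.NormSch
import Groth.Agent.Resolve.K377.DimIneq
import Groth.Agent.Ega1.AmpFamBlow
import Groth.Agent.S8851
import Groth.Agent.Flat2C.BlowExist
import Groth.Agent.Flat2C.BlowProper
import Groth.Agent.Flat2C.CompData
import Groth.Prelude.Def_LCI2
import Groth.Prelude.Def_RelProj

/-!
# Resolution in codimension two of reduced quasi-excellent schemes
-/

set_option autoImplicit false
universe u
open CategoryTheory CategoryTheory.Limits AlgebraicGeometry IsLocalRing TopologicalSpace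

namespace K377.ResScheme

open K377.QESch

/-- Preimages of dense opens under a morphism which is an isomorphism over an open with dense preimage. -/
theorem dense_preimage {X' S' : Scheme.{u}} (b : X' ⟶ S') (W T : S'.Opens) [IsIso (b ∣_ W)]
    (hW : Dense ((b ⁻¹ᵁ W : X'.Opens) : Set X')) (hT : Dense (T : Set S')) :
    Dense ((b ⁻¹ᵁ T : X'.Opens) : Set X') := by
  rw [dense_iff_inter_open]
  intro O hO hne
  obtain ⟨x, hxO, hxW⟩ := hW.inter_open_nonempty O hO hne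
  have hop : IsOpenImmersion ((b ⁻¹ᵁ W).ι ≫ b) := by
    rw [← morphismRestrict_ι]
    infer_instance
  let Q : Set (b ⁻¹ᵁ W : X'.Opens) := (b ⁻¹ᵁ W).ι ⁻¹' O
  have hQ : IsOpen Q := hO.preimage (b ⁻¹ᵁ W).ι.continuous
  have h1 : IsOpen (((b ⁻¹ᵁ W).ι ≫ b) '' Q) := ((b ⁻¹ᵁ W).ι ≫ b).isOpenEmbedding.isOpenMap _ hQ
  obtain ⟨_, ⟨z, hz, rfl⟩, hzT⟩ := hT.inter_open_nonempty _ h1 ⟨_, ⟨x, hxW⟩, hxO, rfl⟩
  refine ⟨z.1, hz, ?_⟩
  exact hzT

theorem main {X : Scheme.{u}} [IsNoetherian X] [X.IsSeparated] [IsReduced X] (hqe : QE X) :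
    ∃ (X' : Scheme.{u}) (f : X' ⟶ X), IsReduced X' ∧ IsProper f ∧ RelProj.IsQuasiProjective f ∧
      (∀ U : X.Opens, (∀ x : X, x ∈ U → IsRegularLocalRing (X.presheaf.stalk x)) → IsIso (f ∣_ U)) ∧
      (∃ U : X.Opens, (∀ x : X, x ∈ U → IsRegularLocalRing (X.presheaf.stalk x)) ∧
        Dense (U : Set X) ∧ Dense ((f ⁻¹ᵁ U : X'.Opens) : Set X')) ∧
      ∀ x : X', ringKrullDim (X.presheaf.stalk (f.base x)) ≤ 2 →
        IsRegularLocalRing (X'.presheaf.stalk x) := by
  obtain ⟨S', ρ, hρf, hn, hiso, U₀, hU₀r, hU₀, hU₀'⟩ := K377.NormSch.exists_norm (fun U => isNag hqe U)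
    (isOpen_regular hqe)
  have hSn : IsNoetherian S' := by
    have : IsLocallyNoetherian S' := LocallyOfFiniteType.isLocallyNoetherian ρ
    have : CompactSpace S' := QuasiCompact.compactSpace_of_compactSpace ρ
    exact {}
  have hqe' : QE S' := of_locallyOfFiniteType ρ hqe
  obtain ⟨𝓘, h𝓘s, h𝓘⟩ := K377.BlowCodim2.main hn (fun x hx => resolvable_stalk hqe' x (hn x) hx)
    (isOpen_regular hqe')
  obtain ⟨X', b, hb⟩ := Groth.Agent.Flat2C.BlowExist.exists_isBlowUp 𝓘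
  have hbp : IsProper b := Groth.Agent.Flat2C.BlowProper.isProper_of_isBlowUp hb
    (Groth.Agent.Models.RMBlow.isFiniteTypeIdeal 𝓘)
  have hred : IsReduced S' := by
    have : ∀ z : S', _root_.IsReduced (S'.presheaf.stalk z) := fun z => by
      have := (hn z).1
      infer_instance
    exact isReduced_of_isReduced_stalk _
  have hX'red : IsReduced X' := Groth.Agent.S8851.result 𝓘 b hb
  obtain ⟨hb1, hb2⟩ := h𝓘 X' b hb
  -- regular points over regular opens
  have hreg : ∀ U : X.Opens, (∀ x : X, x ∈ U → IsRegularLocalRing (X.presheaf.stalk x)) →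
      ∀ z : S', z ∈ ρ ⁻¹ᵁ U → IsRegularLocalRing (S'.presheaf.stalk z) := by
    intro U hU z hz
    have := hiso U hU
    exact K377.BlowCodim2.isRegularLocalRing_of_isIso_restrict ρ U z hz (hU _ hz)
  refine ⟨X', b ≫ ρ, hX'red, inferInstance, ⟨inferInstance, inferInstance,
    ClSub.idealMod (𝓘.comap b), inferInstance, fun V => ?_⟩, fun U hU => ?_, ⟨U₀, hU₀r, hU₀, ?_⟩, fun x hx => ?_⟩
  · exact Groth.Agent.Ega1.AmpFamBlow.isAmple_restrict hb ⟨ρ ⁻¹ᵁ V.1, V.2.preimage ρ⟩ _ rfl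
  · rw [morphismRestrict_comp]
    have e1 := hiso U hU
    have e2 := hb1 (ρ ⁻¹ᵁ U) (hreg U hU)
    exact @IsIso.comp_isIso _ _ _ _ _ (b ∣_ (ρ ⁻¹ᵁ U)) (ρ ∣_ U) e2 e1
  · have h1 : IsIso (b ∣_ 𝓘.support.compl) :=
      Groth.Agent.Divis.BlowUpFormal.isIso_morphismRestrict_compl_support hb _ (by
        rw [Set.disjoint_left]
        exact fun x hx hx' => hx hx')
    refine dense_preimage b 𝓘.support.compl (ρ ⁻¹ᵁ U₀) ?_ hU₀'
    have h2 := Groth.Agent.Flat2C.CompData.dense_compl_support hb.1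
    rw [Scheme.IdealSheafData.support_comap] at h2
    exact h2
  · refine hb2 x ?_
    refine (K377.DimIneq.of_isBirational ρ ?_ (b x)).trans hx
    have := hiso U₀ hU₀r
    exact K377.NormSch.isBirational ρ U₀ hU₀ hU₀'

end K377.ResScheme
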