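import Groth.Agent.FrobSch.K865.TrCover
import Groth.Agent.Mor.K386.FinLocFree
import Groth.Agent.Curves.K321.SubLoc
import Groth.Agent.ThetaS.K943.OpenCart
import Groth.Prelude.Def_Mor2

/-!
# The trace splitting of a finite locally free morphism
-/

set_option autoImplicit false

universe u

open CategoryTheory CategoryTheory.Limits AlgebraicGeometry TopologicalSpace Opposite

namespace K377.TrSplit

open Groth.Agent.Fdesc.LocGen Groth.Agent.Ega2.BasSec K993.QAlg K993.Trace K993.Rank K865.TrCover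

variable {V W : Scheme.{u}}

theorem isUnit_natCast {S : Scheme.{u}} (hS : ∀ s : S, CharZero (S.residueField s)) {d : ℕ} (hd : d ≠ 0) :
    IsUnit ((d : ℕ) : Γ(S, ⊤)) := by
  refine S.toRingedSpace.isUnit_of_isUnit_germ ⊤ _ (fun s hs => ?_)
  have h1 := hS s
  have h2 : S.presheaf.germ ⊤ s hs ((d : ℕ) : Γ(S, ⊤)) = ((d : ℕ) : S.presheaf.stalk s) := map_natCast _ d
  have h3 : IsUnit ((d : ℕ) : S.presheaf.stalk s) := by
    by_contra hcon
    have h4 : IsLocalRing.residue (S.presheaf.stalk s) ((d : ℕ) : S.presheaf.stalk s) = 0 :=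
      (IsLocalRing.residue_eq_zero_iff _).2 ((IsLocalRing.mem_maximalIdeal _).2 hcon)
    have h5 : ((d : ℕ) : S.residueField s) = 0 := (map_natCast (IsLocalRing.residue (S.presheaf.stalk s)) d).symm.trans h4
    exact hd (Nat.cast_eq_zero.1 h5)
  exact h2 ▸ h3

theorem isUnit_natCast_of_hom {S : Scheme.{u}} (hS : ∀ s : S, CharZero (S.residueField s)) (π : W ⟶ S) {d : ℕ}
    (hd : d ≠ 0) (U : W.Opens) : IsUnit ((d : ℕ) : Γ(W, U)) := by
  have h1 := (isUnit_natCast hS hd).map ((π.appLE ⊤ U le_top).hom)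
  rwa [map_natCast] at h1

/-- The trace splitting. -/
theorem isSplitMono_unitToPush [IsIntegral W] (p : V ⟶ W) (hp : Mor2.IsFinLocFree p) [Surjective p]
    (hd : ∀ (d : ℕ), d ≠ 0 → ∀ U : W.Opens, IsUnit ((d : ℕ) : Γ(W, U))) : IsSplitMono (ClSub.unitToPush p) := by
  have hfin := hp.1
  have h1 : FlatMod.IsFinLocFree ((Scheme.Modules.pushforward p).obj (Coh.structureModule V)) :=
    (K386.FinLocFree.main p).2 hp |>.2
  have h2 := K321.SubLoc.isFinLocFreeOfRank_rk h1
  obtain ⟨d, hdd⟩ : ∃ d, FlatMod.IsFinLocFreeOfRank d ((Scheme.Modules.pushforward p).obj (Coh.structureModule V)) :=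
    ⟨_, h2⟩
  have hA := isFinLocFreeOfRank_directImage p hdd
  have hA' := isFinLocFree hA
  have htr := isTrace_trHom hA'
  have hcomp := strMod_comp hA htr
  have hstr : FinCov.strMod (RelSpec.QCAlg.directImage p) ≫ (dirIso p).hom = ClSub.unitToPush p := by
    apply Scheme.Modules.hom_ext
    intro U
    ext s
    rfl
  have hd0 : d ≠ 0 := by
    rintro rfl
    obtain ⟨U, hxU, he⟩ := hA (genericPoint W)
    rw [nonempty_restrict_iso_freeMod_iff] at he
    obtain ⟨e, he⟩ := he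
    obtain ⟨b, -⟩ := exists_basis he le_rfl
    have hsub : Subsingleton (S (RelSpec.QCAlg.directImage p) U) := by
      refine ⟨fun x y => ?_⟩
      apply b.repr.injective
      exact Subsingleton.elim _ _
    have hsub' : Subsingleton Γ(V, p ⁻¹ᵁ U) := hsub
    obtain ⟨v, hv⟩ := p.surjective (genericPoint W)
    have hvU : v ∈ p ⁻¹ᵁ U := by
      change p v ∈ U
      rw [hv]
      exact hxU
    have : Nonempty (p ⁻¹ᵁ U) := ⟨⟨v, hvU⟩⟩
    have hnt : Nontrivial Γ(V, p ⁻¹ᵁ U) := Scheme.component_nontrivial V (p ⁻¹ᵁ U)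
    exact false_of_nontrivial_of_subsingleton Γ(V, p ⁻¹ᵁ U)
  have hiso : IsIso ((d : ℕ) • 𝟙 (Coh.structureModule W)) := by
    refine K943.OpenCart.isIso_of_bijective_affine _ (fun U _ => ?_)
    have h3 : ∀ (k : ℕ) (r : Γ(W, U)),
        (k • 𝟙 (Coh.structureModule W) : Coh.structureModule W ⟶ _).app U (ofFun r) = ofFun (k • r) := by
      intro k r
      induction k with
      | zero => simp
      | succ k ih =>
        rw [succ_nsmul, succ_nsmul, map_add, ← ih]
        rfl
    obtain ⟨w, hw⟩ := hd d hd0 U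
    constructor
    · intro a b hab
      obtain ⟨a, rfl⟩ := (ofFun (X := W) (U := U)).surjective a
      obtain ⟨b, rfl⟩ := (ofFun (X := W) (U := U)).surjective b
      have h4 : ofFun (d • a) = ofFun (d • b) := (h3 d a).symm.trans (hab.trans (h3 d b))
      have h5 := (ofFun (X := W) (U := U)).injective h4
      rw [nsmul_eq_mul, nsmul_eq_mul, ← hw] at h5
      rw [w.mul_right_inj.1 h5]
    · intro b
      obtain ⟨b, rfl⟩ := (ofFun (X := W) (U := U)).surjective b
      refine ⟨ofFun ((w⁻¹ : Γ(W, U)ˣ) * b), (h3 d _).trans ?_⟩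
      rw [nsmul_eq_mul, ← hw, ← mul_assoc, w.mul_inv, one_mul]
  refine ⟨⟨⟨(dirIso p).inv ≫ trHom hA' ≫ inv ((d : ℕ) • 𝟙 (Coh.structureModule W)), ?_⟩⟩⟩
  rw [← hstr, Category.assoc, Iso.hom_inv_id_assoc, ← Category.assoc, hcomp, IsIso.hom_inv_id]

end K377.TrSplit
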